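import Cfsg.Agent.J4R.A1
import Cfsg.Agent.H6.J4.Pres

/-! The letters, the charts and the graph for the fourth Janko group. -/

set_option autoImplicit false
set_option maxRecDepth 100000

namespace Cfsg.J4R

open Subgroup Cfsg.H6
open Cfsg.Co.Rc (mem_cen)

/-- The matrices of the letters. -/
noncomputable def RM : ℕ → ℕ := nthN [11151733894906779683522195341810241573494785, 11151733894906779683522195341810241573494785, 11151733894906779683522195341810241573494785, 11151733894906779683522195341810241573494785, 11151733894906779683522195341810241573494785, 11151733894906779683522195341810241573494785, 11151733894906779683522195341810241573494785, 11151733894906779683522195341810241573494785, 11151733894906779683522195341810241573494785, 11151733894906779683522195341810241573494785,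 11151733894906779683522195341810241573494785, 11151733894906779683522195341810241573494785, 11151733894906779683522195341810241573494785, 11151733894906779683522195341810241573494785, 13943070150799838629661051840212804801929219, 6623341143458193520018325991262699835764785, 13943070150799833680318746337921032240766979, 6623341496706780382017648543877820099751993, 13943070150799803956459618319548853004541955, 6972385781327415482020565520122375019966465, 11157181071882781621694781617259346680356865, 11173522605408518184246118634475846717415425, 11168068778396256177170304385961086030979073, 11195306006134750515911557352591962190913537, 11151733894906779683522490633918612882071553, 11151733894906779683522195341810241573494785]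

/-- The action of the letters on vectors. -/
noncomputable def im (x p : ℕ) : ℕ := frc (fun A => ap12 A p) (RM x)

theorem im_xor (x p q : ℕ) : im x (p ^^^ q) = im x p ^^^ im x q := by
  unfold im
  rw [frc_eq, frc_eq, frc_eq, ap12_xor]

/-- The letters as words in the generators of the presented group. -/
def WD (l : ℕ) : List ℕ := ([[],[3,1,3,1,3,1,2,1,3,1,3,1,3,1,3,1,2,1,2,1,3,1,3,1,3,1,3,4,2,1,2,1,2,1,2,1,3,1,2,1,2,1,3,1,3,1,3,1,3,4,2,1,2,1,2,1,2,1,3,1,2,1,2,1,3,1,3,1,3,1,3,4,2,1,2,1,2,1,2,1,3,1,1,2,1,2,1,2,1,2,1,3,1,2,1,2,1,2],[3,1,3,1,3,1,2,1,3,1,2,1,3,1,2,1,2,1,3,1,3,1,3,1,3,4,2,1,2,1,2,1,2,1,3,1,2,1,2,1,3,1,3,1,3,1,3,4,2,1,2,1,2,1,2,1,3,1,2,1,2,1,3,1,3,1,3,1,3,4,2,1,2,1,2,1,2,1,3,1,1,2,1,3,1,2,1,3,1,2,1,2,1,2],[2,1,2,1,2,1,3,1,3,1,3,1,2,1,2,1,3,1,3,1,3,1,3,4,2,1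,2,1,2,1,2,1,3,1,2,1,2,1,3,1,3,1,3,1,3,4,2,1,2,1,2,1,2,1,3,1,2,1,2,1,3,1,3,1,3,1,3,4,2,1,2,1,2,1,2,1,3,1,1,2,1,2,1,2,1,3,1,3,1,3],[1,2,1,2,1,3,1,2,1,2,1,3,1,3,1,2,1,2,1,3,1,3,1,3,1,3,4,2,1,2,1,2,1,2,1,3,1,2,1,2,1,3,1,3,1,3,1,3,4,2,1,2,1,2,1,2,1,3,1,2,1,2,1,3,1,3,1,3,1,3,4,2,1,2,1,2,1,2,1,3,1,1,2,1,2,1,3,1,3,1,2,1,3,1,3,1],[1,3,1,3,1,2,1,2,1,3,1,3,1,2,1,2,1,3,1,3,1,3,1,3,4,2,1,2,1,2,1,2,1,3,1,2,1,2,1,3,1,3,1,3,1,3,4,2,1,2,1,2,1,2,1,3,1,2,1,2,1,3,1,3,1,3,1,3,4,2,1,2,1,2,1,2,1,3,1,1,2,1,2,1,3,1,3,1,2,1,2,1],[2,1,3,1,3,1,3,1,2,1,2,1,3,1,2,1,2,1,2,1,2,1,3,1,3,1,3,1,3,4,2,1,2,1,2,1,2,1,3,1,2,1,2,1,3,1,3,1,3,1,3,4,2,1,2,1,2,1,2,1,3,1,2,1,2,1,3,1,3,1,3,1,3,4,2,1,2,1,2,1,2,1,3,1,1,3,1,3,1,2,1,3,1,3,1,2,1,2,1,2,1,3],[3,1,3,1,2,1,3,1,3,1,2,1,3,1,2,1,2,1,3,1,3,1,3,1,3,4,2,1,2,1,2,1,2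,1,3,1,2,1,2,1,3,1,3,1,3,1,3,4,2,1,2,1,2,1,2,1,3,1,2,1,2,1,3,1,3,1,3,1,3,4,2,1,2,1,2,1,2,1,3,1,1,2,1,3,1,2,1,2,1,3,1,2,1,2],[1,2,1,2,1,3,1,2,1,3,1,3,1,2,1,3,1,2,1,3,1,3,1,3,1,3,1,2,1,2,1,2,1,3,1,3,1,3,1,3,1,2,1,2],[1,3,1,2,1,3,1,3,1,2,1,2,1,3,1,3,1,3,1,2,1,2,1,2,1,2,1,3,1,2,1,3,1,2,1,2,1,3,1,3,1,3,1,2,1,3,1,3,1,3,1,3],[1,2,1,2,1,2,1,3,1,2,1,2,1,2,1,3,1,3,1,2,1,3,1,2,1,3,1,3,1,3,1,3,1,2,1,2,1,2,1,3,1,3,1,3,1,3,1,2,1,2],[2,1,2,1,2,1,3,1,3,1,3,1,3,1,2,1,2,1,3,1,2,1,2,1,2,1,3,1,3,1,2,1,2,1,2,1,3,1,2,1,2,1,2,1,2,1,3,1,3,1,3,1,3],[2,1,2,1,3,1,3,1,2,1,3,1,3,1,2,1,3,1,2,1,3,1,2,1,3,1,2,1,3,1,2,1,3,1,3,1,3,1,2,1,2,1,3,1,3],[3,1,2,1,2,1,3,1,2,1,3,1,2,1,2,1,2,1,2,1,3,1,3,1,2,1,2,1,3,1,3,1,3,1,3,1,2,1,3,1,2,1,3,1,3,1,2],[1,3,1,2,1,2,1,2,1,2,1,2,1,2,1,2,1,3,1,3,1,3,1,2,1,2,1,2,1,2,1,2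,1,2,1,2,1,3,1,3,1,2,1,3,1,2,1,2,1,2],[1,3,1,3,1,2,1,2,1,2,1,3,1,3,1,2,1,3,1,3,1,2,1,3,1,2,1,3,1,3,1,3,1,3,1,2,1,2,1,2,1,2,1,2,1,3,1,3],[1,2,1,3,1,3,1,2,1,3,1,2,1,3,1,3,1,2,1,2,1,3,1,3,1,3,1,3,1,3,1,2,1,3,1,2,1,3,1,2,1,2,1,2,1,3,1,3,1,2,1,2],[1,2,1,2,1,2,1,2,1,3,1,3,1,2,1,2,1,2,1,3,1,3,1,2,1,2,1,2,1,3,1,2,1,2,1,2,1,2,1,2,1,2,1,3,1,3,1,3,1,3,1,2],[1,3,1,2,1,3,1,3,1,3,1,2,1,3,1,3,1,2,1,3,1,2,1,3,1,2,1,2,1,3,1,2,1,3,1,2,1,2,1],[1,2,1,2,1,2,1,3,1,3,1,3,1,2,1,3,1,3,1,3,1,3,1,3,1,2,1,2,1,2,1,2,1,3,1,3,1,3,1,2,1,2,1,2,1,2,1,3,1,2,1,2,1],[1,2,1,3,1,3,1,2,1,3,1,2,1,2,1,3,1,3,1,2,1,2,1,2,1,3,1,3,1,3,1,3,4,2,1,2,1,2,1,2,1,3,1,2,1,2,1,3,1,3,1,3,1,3,4,2,1,2,1,2,1,2,1,3,1,2,1,2,1,3,1,3,1,3,1,3,4,2,1,2,1,2,1,2,1,3,1,1,3,1,2,1,2,1,3,1,3,1,2,1,3,1,2,1,2,1,3,1,2,1,2,1,3,1,2,1,2,1,3,1,3,1,2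,1,2,1,3,1,3,1,3,1,3,4,2,1,2,1,2,1,2,1,3,1,2,1,2,1,3,1,3,1,3,1,3,4,2,1,2,1,2,1,2,1,3,1,2,1,2,1,3,1,3,1,3,1,3,4,2,1,2,1,2,1,2,1,3,1,1,2,1,2,1,3,1,3,1,2,1,3,1,3],[2,1,2,1,3,1,2,1,2,1,3,1,3,1,2,1,2,1,3,1,3,1,3,1,3,4,2,1,2,1,2,1,2,1,3,1,2,1,2,1,3,1,3,1,3,1,3,4,2,1,2,1,2,1,2,1,3,1,2,1,2,1,3,1,3,1,3,1,3,4,2,1,2,1,2,1,2,1,3,1,1,2,1,2,1,3,1,3,1,2,1,3,1,3,1,3,1,2,1,3,1,2,1,2,1,3,1,2,1,2,1,2,1,3,1,3,1,3,1,3,4,2,1,2,1,2,1,2,1,3,1,2,1,2,1,3,1,3,1,3,1,3,4,2,1,2,1,2,1,2,1,3,1,2,1,2,1,3,1,3,1,3,1,3,4,2,1,2,1,2,1,2,1,3,1,1,3,1,2,1,3,1,3,1,2,1,3,1,2,1],[2,1,3,1,3,1,3,1,3,1,2,1,2,1,3,1,2,1,2,1,3,1,3,1,3,1,3,4,2,1,2,1,2,1,2,1,3,1,2,1,2,1,3,1,3,1,3,1,3,4,2,1,2,1,2,1,2,1,3,1,2,1,2,1,3,1,3,1,3,1,3,4,2,1,2,1,2,1,2,1,3,1,1,2,1,3,1,3,1,2,1,2,1,2,1,2,1,3,3,1,3,1,2,1,3,1,2,1,2,1,3,1,2,1,2,1,3,1,2,1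,2,1,3,1,3,1,3,1,3,4,2,1,2,1,2,1,2,1,3,1,2,1,2,1,3,1,3,1,3,1,3,4,2,1,2,1,2,1,2,1,3,1,2,1,2,1,3,1,3,1,3,1,3,4,2,1,2,1,2,1,2,1,3,1,1,2,1,3,1,3,1,2,1,3,1,3,1,2,1,3,1,2,1,2],[3,1,3,1,2,1,3,1,2,1,2,1,3,1,2,1,2,1,3,1,2,1,2,1,3,1,3,1,3,1,3,4,2,1,2,1,2,1,2,1,3,1,2,1,2,1,3,1,3,1,3,1,3,4,2,1,2,1,2,1,2,1,3,1,2,1,2,1,3,1,3,1,3,1,3,4,2,1,2,1,2,1,2,1,3,1,1,2,1,3,1,3,1,2,1,3,1,3,1,2,1,3,1,2,1,2,1,3,1,2,1,2,1,2,1,2,1,2,1,2,1,2,1,2,1,2,1,2,1,2,1,3,1,3,1,3,1,3,4,2,1,2,1,2,1,2,1,3,1,2,1,2,1,3,1,3,1,3,1,3,4,2,1,2,1,2,1,2,1,3,1,2,1,2,1,3,1,3,1,3,1,3,4,2,1,2,1,2,1,2,1,3,1,1,3,1,3,1,3,1,3,1,3,1,3,1,3,1,3,1,3,1,2,1],[4],[2,1,2,1,2,1,3,1,2,1,3,1,3,1,2,1,2,1,3,1,2,1,3,1,2]] : List (List ℕ)).getD l []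

/-- The letters of the model. -/
def e0 (l : ℕ) : Spor.J4 := evL H6.J4.ev (WD l)

/-- The conjugate of the `i`-th element of the frame by the letter `l`. -/
def CW (l i : ℕ) : List ℕ := (([[[2,3],[3],[2,3,4,6],[3,4,5,6,7],[3,6],[2,6,7],[8,10,13],[8,9,10,11,12],[10,11],[11],[10,11,12,13],[11,13]],[[2,6,7],[2,3,7],[5],[4],[7],[6],[8,9],[9],[11],[10],[8,13],[8,9,12]],[[2,3],[3],[2,4,6],[2,3,4,5,6,7],[3,6],[2,6,7],[8,10,11,13],[8,9,11,12],[10,11],[11],[10,11,12,13],[11,13]],[[2,5,6,7],[2,3,4,7],[5],[4],[5,7],[4,6],[8,9],[9],[9,11,13],[8,10,12],[8,13],[8,9,12]],[[2,3],[3],[4,6],[4,5,6,7],[6],[6,7],[8],[8,9],[10,11],[11],[10,11,12,13],[11,13]],[[2],[2,3],[2,5,7],[2,3,4,6],[2,3,7],[3,6],[8,9,10,11,12],[9,11,12,13],[11],[10],[11,13],[10,12]],[[2],[3],[4],[5],[6],[7],[1,3,4,7,8],[1,2,4,5,6,9],[2,3,10],[3,11],[3,12],[2,13]],[[2],[3],[4],[5],[6],[7],[8],[9],[7,10],[6,11],[5,12],[4,13]],[[2],[3],[4],[5],[6],[7],[1,3,4,6,7,8],[1,2,4,5,7,9],[2,3,10],[3,11],[2,12],[2,3,13]],[[2],[3],[4],[5],[6],[7],[4,8],[4,5,9],[1,2,3,5,6,10],[1,3,4,6,7,11],[4,5,12],[5,13]],[[2],[3],[1,4,11,13],[1,5,10,12],[6,11],[7,10],[8],[9],[10],[11],[12],[13]]]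 : List (List (List ℕ))).getD (l - 14) []).getD i []

/-- The letters of the elementary abelian group of order `2 ^ 11`. -/
def VL : List ℕ := [1, 2, 3, 4, 5, 6, 7, 20, 21, 22, 23]

variable {G : Type*} [Group G]

/-- A chart of the centraliser of `z`; `c l` lies over the matrix of the letter `l`. -/
structure Ch (z : G) (Q : Subgroup G) (a c : ℕ → G) : Prop where
  es : ES z Q
  fr : Fr z Q false a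
  cz : ∀ l, c l * z = z * c l
  act : ∀ l, 14 ≤ l → l < 25 → ∀ v < 4096, rc z a (c l) v = im l v
  gen : ∀ x, x * z = z * x → ∃ w : List ℕ, (∀ l ∈ w, 14 ≤ l ∧ l < 25) ∧ x * (evL c w)⁻¹ ∈ Q

/-- The graph of a homomorphism from the centraliser in the model onto the centraliser. -/
structure Gr (z : G) (a : ℕ → G) (Γ : Subgroup (G × Spor.J4)) (g : ℕ → G) : Prop where
  fst : ∀ x, (x, 1) ∈ Γ → x = 1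
  snd : ∀ x0, (1, x0) ∈ Γ → x0 = 1
  mem : ∀ l < 25, (g l, e0 l) ∈ Γ
  gen : ∀ K : Subgroup (G × Spor.J4), (∀ l < 25, (g l, e0 l) ∈ K) → Γ ≤ K
  fr : ∀ l < 14, g l = fa z a l

/-- The subgroup generated by the letters of `VL`. -/
def VV (g : ℕ → G) : Subgroup G := closure {x | ∃ l ∈ VL, x = g l}

/-- The stage reached after the analysis of the centraliser. -/
structure St (z : G) (Q : Subgroup G) (a : ℕ → G) (Γ : Subgroup (G × Spor.J4)) (g : ℕ → G) :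
    Prop where
  ch : Ch z Q a g
  gr : Gr z a Γ g
  /-- an element of the normaliser of `V` moving `z` to `s` -/
  mv : ∃ n ∈ normalizer (VV g : Set G), n * z * n⁻¹ = g 2
  /-- the duads are not conjugate to `z` -/
  n1 : ¬ IsConj z (g 2 * g 6)
  n2 : ¬ IsConj z (g 20)

/-- The final amalgam: `g 25` is the image of the last letter, and the letters `1..23, 25` satisfy
all relations of the model. -/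
structure Am (z : G) (Q : Subgroup G) (a : ℕ → G) (Γ Λ : Subgroup (G × Spor.J4)) (g : ℕ → G) :
    Prop where
  st : St z Q a Γ g
  fst : ∀ x, (x, 1) ∈ Λ → x = 1
  mem : ∀ l < 26, l ≠ 24 → (g l, e0 l) ∈ Λ

end Cfsg.J4R
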