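import Cfsg.Agent.J4R.D0
import Cfsg.Agent.H6.J4.N.Main
import Cfsg.Agent.H6.M24

/-! Codes for the elementary abelian group of order `2 ^ 11` and the action of `M₂₄` on it. -/

set_option autoImplicit false
set_option maxRecDepth 100000

namespace Cfsg.J4R

open Subgroup Cfsg.H6 Cfsg.H4.Golay

variable {G : Type*} [Group G]

/-- The word of a code: bit `i` stands for the `i`-th letter of `VL`. -/
def vw (x : ℕ) : List ℕ := ((List.range 11).filter x.testBit).map (VL.getD · 0)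

/-- The element with a given code. -/
def vv (g : ℕ → G) (x : ℕ) : G := evL g (vw x)

/-- The matrices of the letters `1..23, 25` on the codes. -/
noncomputable def AC : ℕ → ℕ := nthN [1361295641468112754336205486060820504577, 1361295641468112754336205486060820504577, 1361295641468112754336205486060820504577, 1361295641468112754336205486060820504577, 1361295641468112754336205486060820504577, 1361295641468112754336205486060820504577, 1361295641468112754336205486060820504577, 1361295641468112754336205486060820504577, 1371964837958230246442420529692544086017, 1393226644556474878091750332646360621057, 1434405133418323535697876183768667004929, 1506182793618261789898542008991024685057, 1393197763671786023621188081088081174529, 1382565237145857349325735949713016889345, 1361295651609317716727143203529635684353, 1361378718222800920656567280171506606081, 2041860415874809049131398616989124550657, 1361627948467058870022973829926718218241, 2213330786766243979983302539125769396225,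 1361295651609317423979598644194016501761, 1361295641468112754336205486060820504577, 1361295641468112754336205486060820504577, 1361295641468112754336205486060820504577, 1361295641468112754336205486060820504577, 1361295641468112754336205486060820504577, 1482106812352749418853458966285725470722]

/-- The action of the letters on the codes. -/
noncomputable def ac (l x : ℕ) : ℕ := frc (fun A => ap12 A x) (AC l)

theorem ac_xor (l p q : ℕ) : ac l (p ^^^ q) = ac l p ^^^ ac l q := by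
  unfold ac
  rw [frc_eq, frc_eq, frc_eq, ap12_xor]

/-- The cocode vectors of the points. -/
def fp (i : ℕ) : ℕ := [2048, 2106, 2556, 3371, 4074, 2452, 2509, 3021, 2253, 2966, 2236, 3066, 2166, 2468, 2180, 2125, 4045, 2292, 3982, 2976, 4008, 3439, 3404, 3337].getD i 0

/-- The code of a duad. -/
def du (p q : GolayPt) : ℕ := fp (idx p) ^^^ fp (idx q)

theorem exists_psi : ∃ ψ : J4.N.Grp →* Equiv.Perm GolayPt, ∀ l, ψ (J4.N.ev l) = evS M24.ev M24.sg l :=
  J4.N.lift (M24.ora.good_evS (σ := M24.sg) (by decide +kernel)) (M24.ora.rels_evS (by decide +kernel))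

/-- The action on the points. -/
noncomputable def psi : J4.N.Grp →* Equiv.Perm GolayPt := exists_psi.choose

theorem hpsi (l : ℕ) : psi (J4.N.ev l) = evS M24.ev M24.sg l := exists_psi.choose_spec l

def sgN : List (List ℕ) := [[], [1], [2], [3], [2,1,2,1,3,1,3,1,2,1,2,1,2], [3,1,3,1,3,1,2,1,2,1,3,1,3], [2,1,3,1,2,1,3,1,2,1,2,1,3,1,2,1,3], [2,1,3,1,2,1,3,1,3,1,2,1,3,1,2,1,3], [1,2,1,2,1,2,2,1,2,1,2,1,2,1,2,1,2,1,2,2], [3,3,1,3,1,3,1,3,1,3,1,3,1,3,3,1,3,1,3,1], [1,2,1,2,1,2,2,1,2,1,2,1,2,1,2,1,2,1,2,2,2,1,2,1,2,1,2,2,1,2,1,2,1,2,2,1,2,1,2,1,2], [3,1,3,1,3,1,3,3,1,3,1,3,1,3,3,1,3,1,3,1,3,3,3,1,3,1,3,1,3,1,3,1,3,1,3,3,1,3,1,3,1], [2,1,2,1,2,1,2,1,3,1,2,1,2,1,3,1,3,1,3,1,3], [2,1,2,1,2,1,2,1,3,1,3,1,2,1,3,1,3,1,3,1,3], [3,1,2]]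

theorem exists_th : ∃ θ : J4.N.Grp →* Spor.J4, ∀ l, θ (J4.N.ev l) = evS J4.ev sgN l :=
  J4.N.lift (good_evS J4.hev J4.hR (by decide +kernel)) (rels_evS_cyc J4.hev J4.hR (by decide +kernel))

/-- The map from the presented `M₂₄`. -/
noncomputable def th : J4.N.Grp →* Spor.J4 := exists_th.choose

theorem hth (l : ℕ) : th (J4.N.ev l) = evS J4.ev sgN l := exists_th.choose_spec l

/-- The letters `8..19, 25` in the presented `M₂₄`. -/
def ml (l : ℕ) : J4.N.Grp := evL J4.N.ev (WD l)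

/-- The stabiliser of the sextet. -/
def Sb : Subgroup J4.N.Grp := closure {m | ∃ l, 8 ≤ l ∧ l < 20 ∧ m = ml l}

/-- `x` and `x0` act in the same way on the codes. -/
def Nm (g : ℕ → G) (x : G) (x0 : Spor.J4) : Prop :=
  ∀ v < 2048, ∃ u < 2048, x * vv g v * x⁻¹ = vv g u ∧ x0 * vv e0 v * x0⁻¹ = vv e0 u

/-- Facts on the model. -/
structure HM : Prop where
  xor : ∀ x < 2048, ∀ y < 2048, vv e0 (x ^^^ y) = vv e0 x * vv e0 y
  inj : ∀ x < 2048, vv e0 x = 1 → x = 0
  act : ∀ l < 26, l ≠ 24 → ∀ x < 2048, ac l x < 2048 ∧ e0 l * vv e0 x * (e0 l)⁻¹ = vv e0 (ac l x)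
  ml : ∀ l, (8 ≤ l ∧ l < 20 ∨ l = 25) → th (J4R.ml l) = e0 l
  du_lt : ∀ p q, du p q < 2048
  dua : ∀ m p q, th m * vv e0 (du p q) * (th m)⁻¹ = vv e0 (du (psi m p) (psi m q))
  pinj : Function.Injective psi
  odd : ¬ 2 ∣ Sb.index
  cen : ∀ m x, x < 2048 → th m = vv e0 x → m = 1

/-- Facts on the normaliser of `V`. -/
structure HI (g : ℕ → G) : Prop where
  cen : ∀ x : G, (∀ v < 2048, x * vv g v * x⁻¹ = vv g v) → ∃ u < 2048, x = vv g u
  onto : ∀ m, ∃ x : G, Nm g x (th m)

variable {z : G} {a g : ℕ → G} {Γ : Subgroup (G × Spor.J4)}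

theorem Gr.word (K : Gr z a Γ g) (w : List ℕ) (h : ∀ l ∈ w, l < 25) : (evL g w, evL e0 w) ∈ Γ := by
  induction w with
  | nil => exact Γ.one_mem
  | cons l w ih =>
    rw [evL_cons, evL_cons]
    exact Γ.mul_mem (K.mem l (h l List.mem_cons_self)) (ih fun k hk => h k (List.mem_cons_of_mem _ hk))

theorem vw_lt (x : ℕ) : ∀ l ∈ vw x, l < 25 := fun l hl => by
  obtain ⟨i, hi, rfl⟩ := List.mem_map.mp hl
  have : ∀ i ∈ List.range 11, VL.getD i 0 < 25 := by decide
  exact this i (List.mem_filter.mp hi).1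

theorem Gr.pv (K : Gr z a Γ g) (x : ℕ) : (vv g x, vv e0 x) ∈ Γ := K.word _ (vw_lt x)

theorem Gr.eq1 (K : Gr z a Γ g) {x y : G} {x0 : Spor.J4} (h : (x, x0) ∈ Γ) (k : (y, x0) ∈ Γ) :
    x = y := mul_inv_eq_one.mp (K.fst _ (by simpa using Γ.mul_mem h (Γ.inv_mem k)))

theorem Gr.eq2 (K : Gr z a Γ g) {x : G} {x0 y0 : Spor.J4} (h : (x, x0) ∈ Γ) (k : (x, y0) ∈ Γ) :
    x0 = y0 := mul_inv_eq_one.mp (K.snd _ (by simpa using Γ.mul_mem h (Γ.inv_mem k)))

theorem Gr.xor (K : Gr z a Γ g) (M : HM) {x y : ℕ} (hx : x < 2048) (hy : y < 2048) :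
    vv g (x ^^^ y) = vv g x * vv g y :=
  K.eq1 (K.pv _) (M.xor x hx y hy ▸ Γ.mul_mem (K.pv x) (K.pv y))

theorem xor_lt' {x y : ℕ} (hx : x < 2048) (hy : y < 2048) : x ^^^ y < 2048 :=
  Nat.xor_lt_two_pow (n := 11) hx hy

theorem HM.eq (M : HM) {x y : ℕ} (hx : x < 2048) (hy : y < 2048) (e : vv e0 x = vv e0 y) :
    x = y := by
  have h := M.xor x hx y hy
  rw [e, ← M.xor y hy y hy, Nat.xor_self] at h
  exact Nat.eq_of_xor_eq_zero (M.inj _ (xor_lt' hx hy) h)

theorem Gr.veq (K : Gr z a Γ g) (M : HM) {x y : ℕ} (hx : x < 2048) (hy : y < 2048)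
    (e : vv g x = vv g y) : x = y := M.eq hx hy (K.eq2 (K.pv x) (e ▸ K.pv y))

theorem Gr.act (K : Gr z a Γ g) (M : HM) {l x : ℕ} (hl : l < 24) (hx : x < 2048) :
    g l * vv g x * (g l)⁻¹ = vv g (ac l x) :=
  K.eq1 ((M.act l (by omega) (by omega) x hx).2 ▸ Γ.mul_mem (Γ.mul_mem (K.mem l (by omega)) (K.pv x))
    (Γ.inv_mem (K.mem l (by omega)))) (K.pv _)

end Cfsg.J4R
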