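import Cfsg.Agent.J4R.E1
import Cfsg.Agent.J4R.H0
import Cfsg.Agent.H6.J4.Main

/-! The involutions of the fourth Janko group. -/

set_option autoImplicit false
set_option maxRecDepth 100000

namespace Cfsg.J4R.E

open Subgroup Cfsg.H6 Cfsg.H4.Golay

local instance : Finite Spor.J4 := J4.finite

/-- The codes. -/
def F : Type := Fin 2048

instance : Finite F := inferInstanceAs (Finite (Fin 2048))
instance : Add F := ⟨fun a b => ⟨a.1 ^^^ b.1, xor_lt' a.2 b.2⟩⟩
instance : Zero F := ⟨⟨0, by norm_num⟩⟩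
instance : Neg F := ⟨id⟩

instance : AddCommGroup F where
  add_assoc _ _ _ := Fin.ext (Nat.xor_assoc _ _ _)
  zero_add _ := Fin.ext (Nat.zero_xor _)
  add_zero _ := Fin.ext (Nat.xor_zero _)
  neg_add_cancel _ := Fin.ext (Nat.xor_self _)
  add_comm _ _ := Fin.ext (Nat.xor_comm _ _)
  nsmul := nsmulRec
  zsmul := zsmulRec

/-- The element with a code. -/
def ee (c : F) : Spor.J4 := vv e0 c.1

/-- The tree of the two orbits. -/
noncomputable def tl (v : ℕ) : ℕ := Nat.land (Nat.shiftRight (nat_lit 0x5463344e318c6796c631546318c673cce2d846318c6738c6318c6319ba31666318ba318c6318c6738c6318c5139e631746318c631826318c6135c63164e318c62a8c5b9846738c5b9cc231645b19ce3143e318ce318c5f28c6329c6318c60f8c6318be11546317c6319aa317c62f83def8be2f8be319c6317be318c6717c56f8c6318c631841f18ce318be109c5518c62f8c6318b1ef7c6118c6317b62f8c6318c5b3cae5164e32cc5718b6396ae798ca299a5887cdb18e63142f336c72ccc5719a6315e6318c72f8b5718c5938e5119e6318c5915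472c665906c1597232a9cd918c65142d53cb631cc5b18c66c8b731945139ce319ce319462b8b2738ae328c632436735b22d4c5f25c6518b993946319ce314ce317cb318c6518c6738c7336aa3244d6c945aa8cb2cccd1164d7193e39945aa6b1a8536518c6798c6738b2516bdcf7a9e8939efca1f263e5293df27e6597be4fcbdea7be527be4f93e52cc9f97bdf37c9f3949ef8b5ef665f9cbe4f949eccbd797bdf16be527c9127be5293e52cbd527b1edcbe4f94b2f8b1efcca4f9495294a7274b2b7673094b3396659966598ba79caf3253a79cca52ccdd3caa529e5d952e529ba5372a729e65974db994988ce73994b327451394a4994dd2cb252ce64e4e7328e659ca6538ce6eca2526aa30926725c1f074989ce7399661283e59caa328c64a44a0f7c112ce6516498b94252966128b6799413294a4c74f395360f53650949129462e83d99cca48cc9d244a1194330cc1aaccb309497264a50865f093e6d966508452c6e732cc739cc2127bd105414f84a10966109672d82d2f94210cc33084b3094219841ee8490acc270941b98423084b29cc1d07e60d8665083a0c96650967395365983a0b866509cdce84279842799b92ece72d83a1073a109b610cbe0dcc273865f9739ce54e10741ef63a6e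9b210739ce843337c3399c21044e1074a70739d99ce1064db28666c8332a74dd066619839cf631b946610831ef7e612749f9436107b330849ef7be529b5ef7bdcdccdef6e61994b2f941ef7b21984def7bd90949ec7be709c32c6be527be509a90f7be19949af7be196b9ef6be4eca9a8865997be50641af7be1043de8635a984219741ceccdf9cce79ce7396e72d565596b1a993930826089bd93cbdf343d0e74a2ecb72dce559839ce841d07ce6f7bdf37bde8422287a10f44d484c25244a0e7be6e7b72f4e539ce7399ce739ce73739d083a107bde87bdef4e53952db9ce739425f16ad4d431889ce739ce7373a4e74a52cb32c6adaa7be0f43def4c930841099ce739ce7393a50849c883d337ce6952d0d4a2697bdf97bf2f7bded732397a1b98c612739efcbde87bd0d7bdef949f17bdef8c61263db96310d749ef7bdef8c64ecbd8e7bdef94a6f9a1ef6b1ef9bdce7bdef435f17bdef8b2504222c84b319be4e435f9939ed7bdef941d19662e7420f5e5ce941d9ca333842316b5ce7364f9cdce841f056673839ce5e66e64a10ce67384330cadd373a31cadac849ee529d38420c9666e6ca318e66e839f3ca1cc74a0e4667964a39cb5ce845c85ca314a1cd4c66e9ce739ce735a739ce7296e559ce7394cdf39c26f8b50b4296894a4e8c5ce4ad2a4e5b973a0e74210421289a5089ce79ce6739b2799ce6d421086a110426318c62bcab2b53560939ef84231ce6108c73974e107bdef94a317bf338c5ee865ef8427394a739cdf98427994a528c5ce84231839d083def9bdef94a1094a318c5ef949ce8c61094a527be3184e53842528c65273a7346400)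 (Nat.mul 5 v)) 31

/-- The root of a code. -/
noncomputable def rt (f : ℕ) : ℕ → ℕ :=
  @Nat.rec (fun _ => ℕ → ℕ) (fun v => v) (fun _ ih v => frc ih (ac (tl v) v)) f

/-- The sextets. -/
noncomputable def sx (v : ℕ) : Bool := Nat.testBit (nat_lit 0xfe7ffbdfbffedff7f7effe7feffbbffefbfdbfdfefbffdf7fdfbef7fbfeffbfefdf7efbffbfd7fefdfbffdfb7fdff7fdbffbfddffdefbff7effdfb7ffbbfeffedffef7bf7ff7feeffedf7ffbf77fdffd7fbf7fbfdfdfefeffbf7f7fbfdfdfdfdf7dffebffe7ff7ef7ffedffbdff77ffdefefdfdff7fbfbf7bf7fbf7ffefefefefb7fdffef7bfdffef77feffefbbfeffebffddffbf7effdbffd7ffbefeffbbffeffffffa5ffffff69ffffff99ffffff55ffff99ffa5ffffffff69ffffffffffaaef7ffdfbfdfbdfbff7fdbfefbfeffbfefefdfdfefdfefdfefdfdfefefefefefeff69ffffffff99ffa5ffffffffffffaaff3ccc0ff0ffccc3f03cff33fffffffe) v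

theorem htl : ∀ v < 2048, (tl v < 26 ∧ tl v ≠ 24) ∧
    (v = 0 ∨ rt 9 v = if sx v = true then 1 else 128) := by decide +kernel

/-- The letters of the presented `M₂₄` and the last generator as words. -/
def NW : List (List ℕ) := [[], [8, 13, 25, 17, 16, 9, 18, 17], [13, 17, 18, 15, 25, 15, 18, 13], [13, 18, 15, 25, 15, 18, 17, 13], [15, 16, 17, 18, 14, 15, 16, 17, 25, 15, 16, 19, 15, 10, 8], [8, 10, 15, 19, 16, 15, 25, 17, 16, 15, 14, 18, 17, 16, 15], [11, 18, 9, 25, 15, 25, 16, 13], [13, 16, 9, 25, 15, 25, 11, 18], [10, 25, 17, 25, 14, 17, 25, 15, 16, 17, 25, 8, 9], [8, 9, 25, 15, 16, 17, 16, 12, 15, 25, 17, 12, 25], [19, 18, 25, 10, 17, 25, 15, 16, 17, 25, 8, 9], [8, 9, 25, 17, 16, 15, 25, 17, 10, 25, 18, 19], [8, 16, 25, 16, 17, 16, 15, 25, 14, 8], [8, 14, 25, 15, 16, 17, 16, 25, 16, 8], [8, 12, 15, 19, 16, 15, 25, 14, 17, 16, 15, 25, 8, 18], [24]]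

/-- The representatives of the double cosets. -/
def GW (i : ℕ) : List ℕ := subst NW (J4.D2.gwL.getD i [])

/-- The classes of involutions outside `V`. -/
def RL : List (ℕ × ℕ × List ℕ × ℕ) := [(8, 0, [24, 23, 15, 14], 116), (8, 4, [24, 21, 15, 14], 119), (8, 16, [24, 23, 17, 16, 15, 14], 118), (8, 20, [24, 21, 17, 15, 14], 57), (8, 256, [24, 17, 16, 25, 14, 15, 14], 59), (8, 260, [24, 23, 21, 17, 25, 14, 15, 14], 112), (8, 272, [24, 17, 25, 17, 15, 14, 10], 113), (8, 276, [24, 23, 21, 17, 25, 17, 15, 14], 112), (12, 0, [24, 23, 15, 24, 15, 20], 112), (12, 64, [24, 21], 81)]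

/-- The facts that need the matrices. -/
structure Ex : Prop where
  rep : ∀ e ∈ RL, evL e0 e.2.2.1 * (vv e0 e.2.1 * e0 e.1) * (evL e0 e.2.2.1)⁻¹ = vv e0 e.2.2.2
  mv : ∀ i < 22, i ≠ 0 → i ≠ 2 → i ≠ 3 → ∀ v < 2048, v ≠ 0 → sx v = false → ∀ u < 2048,
    evL e0 (GW i) * vv e0 v * (evL e0 (GW i))⁻¹ ≠ vv e0 u

theorem evL_flat {G : Type*} [Group G] (ev : ℕ → G) (f : ℕ → List ℕ) (w : List ℕ) :
    evL ev (w.flatMap f) = evL (fun l => evL ev (f l)) w := by
  induction w with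
  | nil => rfl
  | cons l w ih => rw [List.flatMap_cons, evL_append, evL_cons, ih]

theorem hNW : ∀ l < 15, (∀ k ∈ NW.getD l [], 8 ≤ k ∧ k < 20 ∨ k = 25) ∧ (l = 0 ∨
    fixB J4.N.img 15 J4.N.bs ((NW.getD l []).flatMap WD ++
      invW 72936578009030319896994569032761600 [l]) = true) := by decide +kernel

theorem th_range : th.range = gen J4.ev J4.Wn := by
  rw [range_eq_genS hth J4.N.hX2]
  congr 1

theorem psi_range : psi.range = M24 := by
  have := J4.N.finite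
  have h1 : psi.range ≤ M24 := by
    rw [range_eq_genS hpsi J4.N.hX]
    exact gen_le fun w _ => evL_mem_of_letters fun x _ => M24.mem x
  have h2 : gen M24.ev M24.Ws ≤ psi.range := by
    rw [show M24.Ws = M24.Ws.map (subst M24.sg) by decide +kernel, ← gen_evS]
    exact gen_le fun w _ => ⟨evL J4.N.ev w, by rw [map_evL, funext hpsi]⟩
  exact Subgroup.eq_of_le_of_card_ge h1 (M24.card_le.trans
    ((Nat.le_of_dvd Nat.card_pos M24.dv).trans (Subgroup.card_le_of_le h2)))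

theorem psi_gP {k : ℕ} {w : List ℕ} (h : inR 15 w = true ∧ ∀ i < 24, trF M24.img w i = tb (Co.gT k) i) :
    (psi (evL J4.N.ev w))⁻¹ = (Co.gP k).1 := by
  ext1 p
  have e : psi (evL J4.N.ev w) = evL M24.ev w := by
    rw [map_evL]
    refine evL_congr fun l hl => ?_
    have : ∀ l < 15, 1 ≤ l → M24.sg.getD l [] = [l] := by decide
    rw [hpsi, evS, this l (inR_spec h.1 l hl).2 (inR_spec h.1 l hl).1, evL_singleton]
  have := (M24.lab.tr h.1 (idx_lt p)).1
  rw [pt_idx, h.2 _ (idx_lt p), ← (Co.rep_gP k).pt (idx_lt p), pt_idx] at this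
  rw [e]
  exact this

variable (M : HM)
include M

theorem v0 : vv e0 0 = 1 := rfl

theorem vsq {v : ℕ} (hv : v < 2048) : vv e0 v * vv e0 v = 1 := by
  rw [← M.xor v hv v hv, Nat.xor_self]; rfl

theorem rt_conj (f : ℕ) : ∀ v < 2048, IsConj (vv e0 v) (vv e0 (rt f v)) := by
  induction f with
  | zero => exact fun v _ => IsConj.refl _
  | succ f ih =>
    intro v hv
    obtain ⟨a, b⟩ := M.act _ (htl v hv).1.1 (htl v hv).1.2 v hv
    show IsConj _ (vv e0 (frc (rt f) (ac (tl v) v)))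
    rw [frc_eq]
    exact (isConj_iff.mpr ⟨_, b⟩).trans (ih _ a)

theorem cls {v : ℕ} (hv : v < 2048) : v = 0 ∨ (sx v = true ∧ IsConj (vv e0 1) (vv e0 v)) ∨
    (sx v = false ∧ IsConj (vv e0 128) (vv e0 v)) := by
  refine (htl v hv).2.imp_right fun h => ?_
  have k := (rt_conj M 9 v hv).symm
  rw [h] at k
  cases e : sx v <;> simp_all

theorem sx_iff (n : ¬ IsConj (vv e0 1) (vv e0 128)) {v : ℕ} (hv : v < 2048) :
    IsConj (vv e0 1) (vv e0 v) ↔ sx v = true := by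
  rcases cls M hv with rfl | h | h
  · refine iff_of_false (fun k => ?_) (by decide +kernel)
    exact absurd (M.inj 1 (by norm_num) (isConj_one_left.mp k)) (by norm_num)
  · exact iff_of_true h.2 h.1
  · exact iff_of_false (fun k => n (k.trans h.2.symm)) (by simp [h.1])

/-- The elementary abelian group. -/
def V0 : Subgroup Spor.J4 where
  carrier := {x | ∃ v < 2048, vv e0 v = x}
  one_mem' := ⟨0, by norm_num, rfl⟩
  mul_mem' := by
    rintro _ _ ⟨u, hu, rfl⟩ ⟨v, hv, rfl⟩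
    exact ⟨_, xor_lt' hu hv, M.xor u hu v hv⟩
  inv_mem' := by
    rintro _ ⟨u, hu, rfl⟩
    exact ⟨u, hu, (inv_eq_of_mul_eq_one_right (vsq M hu)).symm⟩

theorem nl {l : ℕ} (h : l < 26) (k : l ≠ 24) : e0 l ∈ normalizer (V0 M : Set Spor.J4) :=
  mem_normalizer_fintype (by
    rintro _ ⟨v, hv, rfl⟩
    exact ⟨_, (M.act l h k v hv).1, (M.act l h k v hv).2.symm⟩)

theorem th_w {w : List ℕ} (h : ∀ k ∈ w, 8 ≤ k ∧ k < 20 ∨ k = 25) :
    th (evL J4.N.ev (w.flatMap WD)) = evL e0 w := by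
  rw [evL_flat, map_evL]
  exact evL_congr fun l hl => M.ml l (h l hl)

theorem th_ev {l : ℕ} (h1 : 1 ≤ l) (h2 : l < 15) : th (J4.N.ev l) = evL e0 (NW.getD l []) := by
  have := J4.N.ora _ ((hNW l h2).2.resolve_left (by omega))
  rw [evL_append, evL_invW J4.N.hev, evL_singleton, mul_inv_eq_one] at this
  rw [← this, th_w M (hNW l h2).1]

theorem nth (m : J4.N.Grp) : th m ∈ normalizer (V0 M : Set Spor.J4) := by
  have k : ∀ l < 15, 1 ≤ l → th (J4.N.ev l) ∈ normalizer (V0 M : Set Spor.J4) := fun l h2 h1 => by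
    rw [th_ev M h1 h2]
    exact evL_mem_of_letters fun k hk => nl M (by have := (hNW l h2).1 k hk; omega)
      (by have := (hNW l h2).1 k hk; omega)
  have : ⊤ ≤ (normalizer (V0 M : Set Spor.J4)).comap th := by
    rw [← J4.N.hX2]
    refine gen_le fun w hw => ?_
    simp only [List.mem_cons, List.not_mem_nil, or_false] at hw
    rcases hw with rfl | rfl <;> exact k _ (by norm_num) (by norm_num)
  exact this (mem_top m)

theorem H_le : gen J4.ev J4.Ws ≤ V0 M ⊔ th.range := by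
  have k : ∀ w, inR 4 w = true → evL J4.ev w ∈ th.range := fun w hw => evL_mem_of_letters fun l hl => by
    have : ∀ l < 4, 1 ≤ l → sgN.getD l [] = [l] := by decide
    exact ⟨J4.N.ev l, by rw [hth, evS, this l (inR_spec hw l hl).2 (inR_spec hw l hl).1, evL_singleton]⟩
  obtain ⟨w3, e, e1⟩ : ∃ w3, J4.Ws = [[1], [2], w3] ∧ WD 1 = [3,1,3,1,3,1,2,1,3,1,3,1,3,1,3,1] ++ w3 ++
    [1,2,1,2,1,2,1,2,1,3,1,2,1,2,1,2] := ⟨_, rfl, by decide⟩
  rw [e]
  refine gen_le fun w hw => ?_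
  simp only [List.mem_cons, List.not_mem_nil, or_false] at hw
  rcases hw with rfl | rfl | rfl
  · exact mem_sup_right (k _ rfl)
  · exact mem_sup_right (k _ rfl)
  · have a : evL J4.ev (WD 1) ∈ V0 M ⊔ th.range := mem_sup_left ⟨1, by norm_num, mul_one _⟩
    rw [e1, evL_append, evL_append] at a
    exact (mul_mem_cancel_left (mem_sup_right (k _ rfl))).mp
      ((mul_mem_cancel_right (mem_sup_right (k _ rfl))).mp a)

theorem nH : gen J4.ev J4.Ws ≤ normalizer (V0 M : Set Spor.J4) :=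
  (H_le M).trans (sup_le le_normalizer (by rintro _ ⟨m, rfl⟩; exact nth M m))

theorem memH {x : Spor.J4} (hx : x ∈ gen J4.ev J4.Ws) : ∃ v < 2048, ∃ m, x = vv e0 v * th m := by
  have := H_le M hx
  rw [← SetLike.mem_coe, coe_mul_of_right_le_normalizer_left _ _
    (by rintro _ ⟨m, rfl⟩; exact nth M m)] at this
  obtain ⟨_, ⟨v, hv, rfl⟩, _, ⟨m, rfl⟩, rfl⟩ := this
  exact ⟨v, hv, m, rfl⟩

theorem gw_eq {i : ℕ} (hi : i < 22) : evL (evS J4.ev J4.sg2) (J4.D2.D.gw i) = evL e0 (GW i) := by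
  have a : ∀ i < 22, J4.D2.D.gw i = J4.D2.gwL.getD i [] ∧ inR 16 (J4.D2.gwL.getD i []) = true := by
    decide +kernel
  rw [(a i hi).1, GW, ← evL_subst]
  refine evL_congr fun l hl => ?_
  obtain ⟨h1, h2⟩ := inR_spec (a i hi).2 l hl
  rcases Nat.lt_succ_iff_lt_or_eq.mp h2 with h | rfl
  · rw [← J4.hθ' l h1 h, J4.hθ, show J4.sg = sgN from rfl, ← hth, th_ev M h1 h, evS]
  · exact (mul_one _).symm

variable (X : Ex)
include X

theorem mon (n : ¬ IsConj (vv e0 1) (vv e0 128)) {x : Spor.J4} {a : ℕ} (ha : a < 2048)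
    (c : IsConj (vv e0 128) (vv e0 a)) (k : Commute x (vv e0 a)) :
    x ∈ normalizer (V0 M : Set Spor.J4) := by
  obtain ⟨i, hi, p, h⟩ := J4.hU x
  have hi' : ∀ i ∈ J4.D2.E.map Prod.fst, i < 22 ∧ i ≠ 2 ∧ i ≠ 3 := by decide
  have hp : J4.θ p ∈ normalizer (V0 M : Set Spor.J4) := by
    obtain ⟨m, e⟩ : J4.θ p ∈ th.range := by rw [th_range, ← J4.range_eq]; exact ⟨p, rfl⟩
    exact e ▸ nth M m
  replace h := nH M h
  rw [gw_eq M (hi' i hi).1] at h
  by_cases i0 : i = 0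
  · subst i0
    rw [show evL e0 (GW 0) = 1 from rfl, one_mul] at h
    exact (mul_mem_cancel_right (inv_mem hp)).mp h
  obtain ⟨v, hv, e⟩ := (mem_normalizer_iff.mp hp (vv e0 a)).mp ⟨a, ha, rfl⟩
  obtain ⟨u, hu, f⟩ := (mem_normalizer_iff.mp (inv_mem h) (vv e0 a)).mp ⟨a, ha, rfl⟩
  have c' : IsConj (vv e0 128) (vv e0 v) := c.trans (isConj_iff.mpr ⟨_, e.symm⟩)
  refine (X.mv i (hi' i hi).1 i0 (hi' i hi).2.1 (hi' i hi).2.2 v hv ?_ ?_ u hu ?_).elim
  · rintro rfl
    exact absurd (M.inj 128 (by norm_num) (isConj_one_left.mp c')) (by norm_num)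
  · exact Bool.eq_false_iff.mpr fun s => n (((sx_iff M n hv).mpr s).trans c'.symm)
  · rw [e, f]
    calc _ = evL e0 (GW i) * J4.θ p * (x⁻¹ * (x * vv e0 a)) * (evL e0 (GW i) * J4.θ p)⁻¹ := by group
      _ = _ := by rw [k.eq]; group

theorem cls_m {m : ℕ} {U : List ℕ} (hm : m < 24) (m2 : e0 m * e0 m = 1)
    (h : ∀ v < 2048, ac m v = v → ∃ u ∈ U, u < 2048 ∧ ∃ e ∈ RL, e.1 = m ∧ e.2.2.2 < 2048 ∧
      u ^^^ (v ^^^ ac m u) = e.2.1) {v : ℕ} (hv : v < 2048)
    (s : vv e0 v * e0 m * (vv e0 v * e0 m) = 1) : ∃ c, IsConj (vv e0 v * e0 m) (ee c) := by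
  have act := M.act m (by omega) (by omega)
  have mi : (e0 m)⁻¹ = e0 m := inv_eq_of_mul_eq_one_right m2
  have f : ac m v = v := (M.eq (act v hv).1 hv (by
    rw [← (act v hv).2, mi, ← inv_eq_of_mul_eq_one_right (vsq M hv)]
    refine eq_inv_of_mul_eq_one_right ?_
    rw [inv_eq_of_mul_eq_one_right (vsq M hv), ← s]
    group))
  obtain ⟨u, -, hu, e, he, rfl, e3, e2⟩ := h v hv f
  refine ⟨⟨_, e3⟩, IsConj.trans (isConj_iff.mpr ⟨vv e0 u, ?_⟩) (isConj_iff.mpr ⟨_, X.rep e he⟩)⟩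
  rw [← e2, M.xor _ hu _ (xor_lt' hv (act u hu).1), M.xor _ hv _ (act u hu).1, ← (act u hu).2,
    inv_eq_of_mul_eq_one_right (vsq M hu)]
  group

theorem hinv (x : Spor.J4) (hx : x * x = 1) : ∃ c, IsConj x (ee c) := by
  obtain ⟨g, hg⟩ := exists_conj_mem_of_odd (T := gen J4.ev J4.Ws) (by rw [J4.exact.1]; decide)
    (x := x) (k := 1) (by rw [pow_one, sq, hx])
  obtain ⟨v, hv, m, e⟩ := memH M hg
  have s := sq_cj hx g
  have c := isConj_cj x g
  rw [e] at s c
  have mv : ∀ n, ∃ u < 2048, th n * vv e0 v * (th n)⁻¹ = vv e0 u := fun n => by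
    obtain ⟨u, hu, f⟩ := (mem_normalizer_iff.mp (nth M n) (vv e0 v)).mp ⟨v, hv, rfl⟩
    exact ⟨u, hu, f.symm⟩
  have m2 : m * m = 1 := by
    obtain ⟨u, hu, f⟩ := mv m
    refine inv_eq_one.mp (M.cen _ (v ^^^ u) (xor_lt' hv hu) ?_)
    rw [M.xor v hv u hu, ← f, map_inv, map_mul]
    refine inv_eq_of_mul_eq_one_left ?_
    rw [← s]; group
  have key : ∀ n l, n * m * n⁻¹ = ml l → 8 ≤ l → l < 20 → (∀ u < 2048,
      vv e0 u * e0 l * (vv e0 u * e0 l) = 1 → e0 l * e0 l = 1 → ∃ c, IsConj (vv e0 u * e0 l) (ee c)) →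
      ∃ c, IsConj x (ee c) := fun n l f l1 l2 k => by
    obtain ⟨u, hu, f1⟩ := mv n
    have f2 : th n * th m * (th n)⁻¹ = e0 l := by
      rw [← M.ml l (Or.inl ⟨l1, l2⟩), ← f, map_mul, map_mul, map_inv]
    have c2 : IsConj (vv e0 v * th m) (vv e0 u * e0 l) :=
      isConj_iff.mpr ⟨th n, by rw [← f1, ← f2]; group⟩
    obtain ⟨c', hc⟩ := k u hu (sq_of_isConj s c2) (sq_of_isConj (by rw [← map_mul, m2, map_one])
      (isConj_iff.mpr ⟨_, f2⟩))
    exact ⟨c', c.trans (c2.trans hc)⟩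
  have pm : psi m ∈ M24 := psi_range ▸ ⟨m, rfl⟩
  obtain ⟨ν, hν⟩ := Co.inv_M24 (p := ⟨psi m, pm⟩) (Subtype.ext (by
    show psi m * psi m = 1
    rw [← map_mul, m2, map_one]))
  obtain ⟨n, hn⟩ : ν.1 ∈ psi.range := by rw [psi_range]; exact ν.2
  have e1 : (ν * ⟨psi m, pm⟩ * ν⁻¹).1 = psi (n * m * n⁻¹) := by
    rw [map_mul, map_mul, map_inv, hn]; rfl
  have fin : ∀ (k l : ℕ) (U : List ℕ), ν * ⟨psi m, pm⟩ * ν⁻¹ = Co.gP k →
      (inR 15 (U ++ WD l ++ invW 72936578009030319896994569032761600 U) = true ∧ ∀ i < 24,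
        trF M24.img (U ++ WD l ++ invW 72936578009030319896994569032761600 U) i = tb (Co.gT k) i) →
      ∃ n', n' * m * n'⁻¹ = ml l := fun k l U a b => by
    have a1 := psi_gP b
    rw [← a, e1, ← map_inv, M.pinj.eq_iff, evL_append, evL_append, evL_invW J4.N.hev] at a1
    refine ⟨(evL J4.N.ev U)⁻¹ * n, ?_⟩
    rw [← inv_eq_of_mul_eq_one_right m2]
    calc _ = (evL J4.N.ev U)⁻¹ * (n * m * n⁻¹)⁻¹ * evL J4.N.ev U := by group
      _ = _ := by rw [← a1, ml]; group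
  rcases hν with h | h | h
  · rw [h, eq_comm] at e1
    have : m = 1 := by simpa using M.pinj (e1.trans psi.map_one.symm)
    rw [this, map_one, mul_one] at c
    exact ⟨⟨v, hv⟩, c⟩
  · obtain ⟨n', f⟩ := fin 5 8 (List.flatMap WD [17, 25, 19, 17, 25, 16, 15]) h (by decide +kernel)
    exact key n' 8 f (by norm_num) (by norm_num) fun u hu a b =>
      cls_m M X (U := [0, 2, 128, 130, 512, 514, 640, 642, 1024, 1026, 1152, 1154, 1536, 1538, 1664, 1666]) (by norm_num) b (by decide +kernel) hu a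
  · obtain ⟨n', f⟩ := fin 6 12 (List.flatMap WD [17, 25, 15, 14, 8, 17, 25, 15]) h (by decide +kernel)
    exact key n' 12 f (by norm_num) (by norm_num) fun u hu a b =>
      cls_m M X (U := [0, 32, 128, 160, 256, 288, 384, 416, 512, 544, 640, 672, 768, 800, 896, 928, 1024, 1056, 1152, 1184, 1280, 1312, 1408, 1440, 1536, 1568, 1664, 1696, 1792, 1824, 1920, 1952]) (by norm_num) b (by decide +kernel) hu a

omit X in
theorem card_sx (n : ¬ IsConj (vv e0 1) (vv e0 128)) :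
    {c : F | IsConj (vv e0 1) (ee c)}.ncard = 1771 := by
  rw [← Set.ncard_image_of_injective _ (f := fun c : F => c.1) Fin.val_injective,
    show (fun c : F => c.1) '' {c : F | IsConj (vv e0 1) (ee c)} =
      ((Finset.range 2048).filter fun i => sx i = true : Finset ℕ) from ?_,
    Set.ncard_coe_finset, ← cnt_eq]
  · decide +kernel
  ext v
  simp only [Finset.coe_filter, Finset.mem_range, Set.mem_image, Set.mem_ofPred_eq]
  exact ⟨by rintro ⟨c, hc, rfl⟩; exact ⟨c.2, (sx_iff M n c.2).mp hc⟩,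
    fun h => ⟨⟨v, h.1⟩, (sx_iff M n h.1).mpr h.2, rfl⟩⟩

theorem mdl : Mdl ee ⟨1, by norm_num⟩ ⟨128, by norm_num⟩ where
  add c d := M.xor _ c.2 _ d.2
  two _ := Fin.ext (Nat.xor_self _)
  inv := hinv M X
  cls c := (cls M c.2).imp Fin.ext (Or.imp And.right And.right)
  O1 h := absurd (M.inj 1 (by norm_num) h) (by norm_num)
  t0 h := absurd (congrArg Fin.val h) (by decide)
  mon n x a c k d := by
    obtain ⟨u, hu, f⟩ := (mem_normalizer_iff.mp (mon M X n a.2 c k) (ee d)).mp ⟨d.1, d.2, rfl⟩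
    exact ⟨⟨u, hu⟩, f.symm⟩
  cnt n A h k := by
    replace k := k.trans (dvd_of_eq (card_sx M n))
    have k1 : A.index ∣ 2 ^ 11 := by
      have : Nat.card F = 2 ^ 11 := Nat.card_fin 2048
      exact this ▸ A.index_dvd_card
    obtain ⟨j, hj, e⟩ := (Nat.dvd_prime_pow Nat.prime_two).mp k1
    have k2 : A.index < 9 := by
      rw [e] at k ⊢
      revert k
      interval_cases j <;> decide
    have hb : ∀ i : Fin 9, ∀ j : Fin 9, i ≠ j → sx (i.1 ^^^ j.1) = true := by decide +kernel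
    have := Fintype.ofFinite (F ⧸ A)
    let b : Fin 9 → F := fun i => ⟨i.1, by omega⟩
    obtain ⟨i, j, ne, f⟩ := Fintype.exists_ne_map_eq_of_card_lt
      (fun i : Fin 9 => (QuotientAddGroup.mk (b i) : F ⧸ A))
      (by rw [Fintype.card_fin, ← Nat.card_eq_fintype_card]; exact k2)
    exact h _ (QuotientAddGroup.eq.mp f)
      ((sx_iff M n (xor_lt' (b i).2 (b j).2)).mpr (hb i j ne))

end Cfsg.J4R.E
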