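import Cfsg.Agent.J4R.H0

/-! Additive maps on the codes that preserve the duads come from `M₂₄`. -/

set_option autoImplicit false
set_option maxRecDepth 100000
set_option synthInstance.maxSize 100000

namespace Cfsg.J4R

open Subgroup Cfsg.H6 Cfsg.H4.Golay
open Cfsg.Co.Rc (xv_xor)

theorem psi_main : psi.range = M24 ∧ Function.Injective psi := by
  have h := J4.N.card
  have hψ := hpsi
  have := J4.N.finite
  have h1 : psi.range ≤ M24 := by
    rw [range_eq_genS hψ J4.N.hX]
    exact gen_le fun w _ => evL_mem_of_letters fun x _ => M24.mem x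
  have h2 : gen M24.ev M24.Ws ≤ psi.range := by
    rw [show M24.Ws = M24.Ws.map (subst M24.sg) by decide +kernel, ← gen_evS]
    exact gen_le fun w _ => ⟨evL J4.N.ev w, by rw [map_evL, funext hψ]⟩
  have h3 := (Nat.le_of_dvd Nat.card_pos M24.dv).trans (Subgroup.card_le_of_le h2)
  have h5 := (UB.range psi h).2
  exact ⟨Subgroup.eq_of_le_of_card_ge h1 (M24.card_le.trans h3),
    injective_of_card_range psi (by omega)⟩

theorem psi_word {w : List ℕ} (h : inR 15 w = true) : psi (evL J4.N.ev w) = evL M24.ev w := by
  rw [map_evL]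
  refine evL_congr fun x hx => ?_
  have : ∀ x < 15, 1 ≤ x → M24.sg.getD x [] = [x] := by decide
  rw [hpsi, evS, this x (inR_spec h x hx).2 (inR_spec h x hx).1, evL_singleton]

/-- The tables of the letters on the points. -/
noncomputable def tabm (l p : ℕ) : ℕ := tb (nthN [984818244535754528103549039458486304, 501117748525064106085113704095561877, 22488220862218308699333470857694966, 499848932937790310870805999868261590, 926408329755618405632281747919019027, 153912490896491340274777580347274724, 750335645186493034146489522903598432, 894825822569592669396699273805531191, 943842213838110611894610990832716175, 152772635978926435264415002807470081, 984817848278359405698661376568957420, 984817768895406020395525389414405519, 943827175069288648852066181193577871, 152790308445826657887803611103860737, 154048213725610726826635563622962734, 154030147383686606590570530492626945, 154047976389575011734191994793862528, 154038732835167173963003961345283073, 851728856835746520766875906352944512, 901822290000092954536848945104139722, 979158782356871073961777748701023527,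 968665327413921111133032142043025071, 345344316870160931316741224863505929, 603218257702680747338502036768794726, 509270271442242502864240461021728452, 979625436988267462983366627478877457] l) p

theorem labm : Lab psi ml pt tabm 24 26 := by
  have : ∀ x < 26, inR 15 (WD x) = true ∧ ∀ p < 24, trF M24.img (WD x) p = tabm x p := by
    decide +kernel
  refine ⟨fun x _ h p hp => ?_, M24.lab.inj⟩
  rw [ml, psi_word (this x h).1, ← (this x h).2 p hp]
  exact M24.lab.tr (this x h).1 hp

theorem v4 : dvChk tabm 24 26 4 [[12,17,12], [14,19,16,8,15,16]] [] [4,7,8,10,16,19] (unp 5 (nat_lit 0xa0000001000000013010000040100000400)) = true := by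
  decide +kernel

theorem v3 : dvChk tabm 24 26 3 [[8,10,13], [14,10,18,19]] [[12,17,12], [14,19,16,8,15,16]] [3,4,7,8,9,10,11,14,16,17,18,19,20,21,22,23] (unp 15 (nat_lit 0x903000013030000070300000b0300000b0000000402000010020000100000001402000014000000160300001602000016010000030100000300)) = true := by
  decide +kernel

theorem v2 : dvChk tabm 24 26 2 [[8,11], [9,15]] [[8,10,13], [14,10,18,19], [12,17,12], [14,19,16,8,15,16]] [2,3,4,5,6,7,8,9,10,11,13,14,16,17,18,19,20,21,22,23] (unp 19 (nat_lit 0x40300001003000012030000140300001402000007040000090400000a0500000b040000080500000600000011050000110000000e0500000e0000000503000005010000020100000200)) = true := by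
  decide +kernel

theorem v1 : dvChk tabm 24 26 1 [[16]] [[8,11], [9,15], [8,10,13], [14,10,18,19], [12,17,12], [14,19,16,8,15,16]] [1,12,15] (unp 2 (nat_lit 0xc0200000100)) = true := by
  decide +kernel

theorem v0 : dvChk tabm 24 26 0 [[8], [14]] [[16], [8,11], [9,15], [8,10,13], [14,10,18,19], [12,17,12], [14,19,16,8,15,16]] [0,1,2,3,4,5,6,7,8,9,10,11,12,13,14,15,16,17,18,19,20,21,22,23] (unp 23 (nat_lit 0x40600001206000010060000140600001405000009070000070700000a080000060300000b07000002020000020100000c000000080800000807000008060000080400000e0800000e0400000f0400000f010000000100000000)) = true := by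
  decide +kernel

theorem Sb_dv : 138240 ∣ Nat.card Sb := by
  have h := (labm.dvd v0 (labm.dvd v1 (labm.dvd v2 (labm.dvd v3 (labm.dvd v4 (one_dvd _))))))
  refine (Dvd.dvd.trans (by decide +kernel) h).trans (card_dvd_of_le (gen_le fun w hw =>
    evL_mem_of_letters fun x hx => subset_closure ⟨x, ?_, ?_, rfl⟩))
  all_goals revert x w; decide

theorem Sb_odd : ¬ 2 ∣ Sb.index := fun h => by
  have := Nat.mul_dvd_mul Sb_dv h
  rw [Sb.card_mul_index, J4.N.card] at this
  omega

/-- One step towards the representative of the orbit. -/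
noncomputable def pl (v : ℕ) : ℕ := (nat_lit 0x84631546318c631546318ce318c6318aa318c62d8c5718c6318c6318c6318c6315c6318c6318c5ab6c6108c6318c6318c2318c6318aa316b6318c6308c5ad4362d8c6318c62b8c6318b22c8c6318c6318c62b8c6338c6319ce319ce718c6319c508736318ce318b6318c66c8a9118c6319ce31446318c6738c6319a2738c6318c6739ce738b6318c6718aa318c6298ce319c6318c6318c6319ce738c6339c6318425094a5284a1084252942528413094a52842508420c842528421094a10842528421094a529421094a528251084252835109421094a10842108421294a528421294210842108421084252641b084a528c6318c50f8c5ef7be317be319c6318c6317c631646318c5ef8cdef7be318c6318adef8bdf18c6318aa317be317c6318c6318c5f18c6318c6318adef8c62f8c6317be318c5ef8c6317be317b2317c63192a7394a7394a6d94a529ce5294a5294a5294e5294a529ce5294e3294a529493394a739365294a739327394a5294a5294a73949529ca529ce5294a529ce529ce5294a529ce4994a5294a7294a539ca5294a528c65294a4a8aa5294a5293e5294a527c9b294a526ca5294a5294a5294a5294a5294a5294a5294a5294a5294a5294a52949b294a5294a5294a5294a5294a528ca5294a5294a5294a5294a5294a527be4f7bdef7be52949ef93ded7be5294a4f7be52949f2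93def949f27be527be527bd8f93e52949ef7bdef7bdb27b1ef8c9ef7bdef949ef7bdf27bdef7bdef549ef9be52949e87be4f7be527ca4f93e5284210841508421084208842104c1b084210842108421084208842108421082910842098421084210842104c20d84210841898421084210842108421082a10841298421384210842108421084210842104c21084210841f26c210442105419084210842108420f8410c8421064210842108420d83e0a6c210541f0842106b6528360d842106421083609842104c1f0842106320f849f0841ad7c20c8415084210842109a2739a21084210841089c210842738411084e6d4a53064a739b5d09c209542109ce10841339ce13842738420e84273841b384210842109a20e4b2739ce108426d842108421044e739ce1054210846318c6318c6318c6318c6318c6318c6318c6318c631546318c6318c6318c6288c6318c6318c6318c6318c6318c6318c6319c6318c6318c6318c6318c6318c62a8c6318c6318c6318c6318c6318c6317bdef7bdef7bdef7b5ef7bd087bdef7bdef7bded7bdef7bdef7bdec7bdaf43def7bdef7bdef7b50f7bdef7a1af7bdef7bdef7bdef7b5ef7bdef7bdef7bdef7bdef7bdef7cdef7b9f27bdef7bdef7bdef7a1ad7bdb27bdef7bdef43d8d7c5ef7b1ef7bd919490f6bdef7bdef7bdef53d087bded7bdef7b1af6b1f27bd0d7b1ef8bdef631eb7c5ef7bdef7a1ec7bdf1635b37bd8c7b5ef7b5ef6b5f17a1ec7c5ef74d2e9cdce9b1af9cdce9b58e9ce739a1ce9cdce9b9c96b1ce9c58e44e739cdcd44e739cdc9932736394e9cdce7cdcf94dad44dd19ca739b5ce9c9ce6cd8e9b1ce9a1d29c98c9cdc99c9ad64d4e9cdce4c1d152d724a5ad8c673431339cd2d7224d7464e7460d8b9d09b27364db36b5085296b5b50e535715ad4a4a5ad8ad4d4c5ab639d28c2129b2739b1b3821d29c10e74d694b531535ab5b6005296b6b400739ef8423173a108c5ef9ce317be10739ef7be738c5ce8c6108427394a739ce73841ef94a739cdce84231739ef8c5ef7be7394a1094a31949ef401ce8c61094a527be319ce73842528c65273a7340000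 >>> (5 * v)) % 32 % 24

/-- The representative of the orbit of the stabiliser of the sextet. -/
noncomputable def cl (v : ℕ) : ℕ := (fun v => ac (pl v) v)^[10] v

/-- The table of the representatives. -/
noncomputable def ct (v : ℕ) : ℕ := (nat_lit 0x888888888888818080818888888888888888888881808888888880818888888881808888888888888888888888888180888880818888888888888888808188888888888880818888888881808888888888888888888881808081888888888888888881808888888888888888818088888180888888888888888888888888818088888888818088888888888888888081818088888888888888888081888888888888818088888888818088888888888888888888888880818888888880818888888888888888808188888888818088888888818088888888808188888888888881808888888888888888818088888888888888888180888888888888888881808888888888888081888888888081888888888180888888888180888888888888888888888180888888888888888880818081888888888888888881808888888888888081888888888180888888888888888888888888808188888888818088888081888888888888888880818888888888888888808188888888888888888081818088888888888888888888818088888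888888888888081888880818888888888888888888880818888818088888888818088888888888888888888808188888888818088888888888888888888808188888888818088888081888888888888888888888180888881808888888888888888818088888888888888888888818088888081888888888888888888888180888888888081888881808888888888888081888888888888888888888081888888888888888881808888818088888888888888888888818088888081888888888081888888888888888888888180888888888888808188888081888888888888888880818888888888888888888880818081888888888888818088888888888880818888888888888180888888888888888880818888888888888081888888888888818088888888888881808888888888888888818088888888888880818888888888888081888888888888818088888888888888888081888888888888808188888888888880818888888888888081888888888081888888888081888888888888888888888180818088888888888888888888888881808081888888888888888888888081888888888180888888888081888888888888888888888888818088888081888888888888888881808888888880818888888888888888808188888081888888888888888888888888808188888180888888888888818088888888888880818888888888888081888888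888888888880818888888888888180888888888888818088888888888880818888818088888888888880818888888888888180888888888888808188888888888888888888888881808888888888888180888888888888818088888888888881808888888881808888808188888888888888888081888888888888888888888180888888888081888881808888888888888888808188888888888888888888818088888888808188888081888888888888888881808888888888888888888881808888888881808888818088888888888888888180888888888888888888888180818088888888888888888888888880818888808188888888888888888180888888888888808188888888818088888888888888888888808181808888888888888888888888888081808188888888888888888888818088888888818088888888888881808888888888888888818088888180888888888888888888888888818088888888888888888888888888888888888888888888888881808180808180818888888888888888888888888888888888888888888888888081818081808081888888888888888888888888888888888888888888888888818080818180808188888888888888888888888888888888888888888888888880818081808180818888888888888888888888888888888881808081818080818888888888888888818081808081808188888888888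8888888888888888888888888888888888888888888888888888880818180818080818888888888888888888888888888888888888888888888888888888888888888888888888888888881808180818081808888818088888888808188888888888888888888888880818888888881808888888888888888808188888888818088888888808188888888818088888888888888888888808188888888888888888081818088888888888888888180888888888180888888888888888881808888888888888888818088888888888888888180888888888888818088888888888880818888888888888081888888888888818088888888888880818888888888888180888888888888808188888888888881808888888888888081888888888888808188888888888881808888888888888180888888888888818088888888888881808888888888888180888888888888818088888888888888888081818081808081888888888888888888888888888888888888888888888888888888888888888881808081818080818888888888888888818081808081808188888888888888888888888888888888888888888888888888888888888888888888888888888888888888888888888881808180818081800202020202020202222202020202222202022222020222222222222202020202020202022222222202020202020202020202222202022222020222222222020202020202222222222222020202022222020202020202020222220202222202020202020202020202020202020202020202020202020202020202020202020100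 >>> (8 * v)) % 256

theorem cl_eq : ∀ v ∈ List.range 2048, cl v = ct v := by decide +kernel

/-- The duads. -/
noncomputable def isD (v : ℕ) : Bool := Nat.testBit (nat_lit 0x18004204001200808100180100440010402402010400208020410804010040102081040040280102040020480200802400402200210400810020480044010012001084080080110012080040880200280408040202010100408080402020202082001400180081080012004200880021010202008040408408040800101010104802001084020010880100104401001400220040810024002800410100440010000005a0000009600000066000000aa000066005a0000000096000000000055108002040204204008024010401004010102020102010201020201010101010100960000000066005a0000000000005500c333f00f00333c0fc300cc00000000) v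

theorem ct_cases : ∀ v ∈ List.range 2048, (ct v = 0 ∧ v = 0 ∨ ct v = 1 ∧ v = 1 ∨
    ct v = 2 ∧ ct (v ^^^ 1) = 2 ∧ v < 128 ∨ ct v = 136 ∧ ct (v ^^^ 1) = 136 ∨
    ct v = 129 ∧ ct (v ^^^ 1) = 128 ∧ 128 ≤ v) ∧ isD v = false ∨
    (ct v = 34 ∨ ct v = 128) ∧ isD v = true := by decide +kernel

theorem isD_du : ∀ v ∈ List.range 2048, isD v = true →
    ∃ p ∈ List.range 24, ∃ q ∈ List.range p, v = fp p ^^^ fp q := by decide +kernel

theorem fp_facts : ∀ p < 24, ∀ q < 24, fp p ^^^ fp q < 2048 ∧ (p = q ∨ isD (fp p ^^^ fp q) = true) := by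
  decide +kernel

theorem fp_meet : ∀ p ∈ List.range 24, ∀ q ∈ List.range p, ∀ r ∈ List.range 24, ∀ s ∈ List.range r,
    isD (fp p ^^^ fp q ^^^ (fp r ^^^ fp s)) = true → p = r ∨ p = s ∨ q = r ∨ q = s := by
  decide +kernel

theorem span_ind {P : ℕ → Prop} (h0 : P 0) (hx : ∀ x < 2048, ∀ y < 2048, P x → P y → P (x ^^^ y))
    (hb : ∀ i < 11, P (2 ^ i)) : ∀ v < 2048, P v := by
  have k : ∀ v ∈ List.range 2048, v = 0 ∨ ∃ i ∈ List.range 11, v ^^^ 2 ^ i < v ∧ 2 ^ i < 2048 := by
    decide +kernel
  intro v
  induction v using Nat.strong_induction_on with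
  | _ v ih =>
    intro hv
    rcases k v (List.mem_range.mpr hv) with rfl | ⟨i, hi, h1, h2⟩
    · exact h0
    · have := hx _ (h1.trans hv) _ h2 (ih _ h1 (h1.trans hv)) (hb i (List.mem_range.mp hi))
      rwa [Nat.xor_xor_cancel_right] at this

theorem du_lt (p q : GolayPt) : du p q < 2048 := (fp_facts _ (idx_lt p) _ (idx_lt q)).1

theorem span_du {P : ℕ → Prop} (hx : ∀ x < 2048, ∀ y < 2048, P x → P y → P (x ^^^ y))
    (hb : ∀ p q, P (du p q)) : ∀ v < 2048, P v := by
  refine span_ind (by simpa [du] using hb none none) hx fun i hi => ?_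
  have : ∀ i < 11, ∃ e ∈ ([(0, 1, 12, 15), (0, 1, 10, 14), (0, 8, 14, 15), (0, 15, 22, 23), (0, 12, 21, 23), (0, 7, 15, 19), (0, 9, 12, 19), (0, 0, 8, 15), (0, 0, 6, 8), (0, 0, 6, 7), (0, 0, 7, 16)] : List (ℕ × ℕ × ℕ × ℕ)), 2 ^ i = du (pt e.1) (pt e.2.1) ^^^ du (pt e.2.2.1) (pt e.2.2.2) := by
    decide +kernel
  obtain ⟨e, -, h⟩ := this i hi
  exact h ▸ hx _ (du_lt _ _) _ (du_lt _ _) (hb _ _) (hb _ _)

/-- The syndrome. -/
noncomputable def syn (m : ℕ) : ℕ := xv fp m 24

theorem red_step {m g n : ℕ} (hm : m < 2 ^ (n + 1)) (hg : g < 2 ^ (n + 1))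
    (h : g.testBit n = true) : (if m ^^^ g < m then m ^^^ g else m) < 2 ^ n := by
  have k : ∀ x < 2 ^ (n + 1), x.testBit n = false → x < 2 ^ n := fun x hx hb =>
    Nat.lt_pow_two_of_testBit x fun i hi => hi.eq_or_lt.elim (fun e => e ▸ hb) fun e =>
      Nat.testBit_lt_two_pow (hx.trans_le (Nat.pow_le_pow_right (by norm_num) e))
  cases hb : m.testBit n
  · have := k m hm hb
    split_ifs <;> omega
  · have := k _ (Nat.xor_lt_two_pow hm hg) (by rw [Nat.testBit_xor, hb, h]; rfl)
    split_ifs <;> omega

theorem red_spec : ∀ (gs : List ℕ) (m : ℕ), m < 2 ^ (12 + gs.length) →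
    (∀ i < gs.length, syn (gs.reverse.getD i 0) = 0 ∧ gs.reverse.getD i 0 < 2 ^ (12 + i + 1) ∧
      (gs.reverse.getD i 0).testBit (12 + i) = true) →
    H4.Golay.red gs m < 4096 ∧ syn (H4.Golay.red gs m) = syn m
  | [], m, h, _ => ⟨h, rfl⟩
  | g :: gs, m, h, k => by
    have e : (g :: gs).reverse.getD gs.length 0 = g := by simp
    obtain ⟨k1, k2, k3⟩ := k gs.length (by simp)
    rw [e] at k1 k2 k3
    have := red_spec gs _ (red_step h k2 k3) fun i hi => by
      have e' : (g :: gs).reverse.getD i 0 = gs.reverse.getD i 0 := by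
        rw [List.reverse_cons, List.getD_append _ _ _ _ (by simpa using hi)]
      exact e' ▸ k i (by simp; omega)
    refine ⟨this.1, this.2.trans ?_⟩
    split_ifs
    · rw [syn, xv_xor, ← syn, ← syn, k1, Nat.xor_zero]
    · rfl

theorem mem_of_syn {m : ℕ} (hm : m < 2 ^ 24) (h : syn m = 0) : wd m ∈ golayCode := by
  have k : ∀ r ∈ List.range 4096, syn r = 0 → r = 0 := by decide +kernel
  obtain ⟨h1, h2⟩ := red_spec basis m hm (by decide +kernel)
  exact wd_mem (k _ (List.mem_range.mpr h1) (h2.trans h))

def mk2 (L : List (ℕ × ℕ)) : ℕ := L.foldr (fun e acc => 2 ^ e.1 ^^^ 2 ^ e.2 ^^^ acc) 0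
def fx2 (L : List (ℕ × ℕ)) : ℕ := L.foldr (fun e acc => fp e.1 ^^^ fp e.2 ^^^ acc) 0

theorem wd_pow {i : ℕ} (hi : i < 24) (π : Equiv.Perm GolayPt) :
    wd (2 ^ i) ∘ π.symm = wd (2 ^ idx (π (pt i))) := by
  funext p
  refine wd_eq_iff.mpr ?_
  rw [Nat.testBit_two_pow, Nat.testBit_two_pow, decide_eq_decide]
  refine ⟨fun e => by rw [e, pt_idx, Equiv.apply_symm_apply], fun e => ?_⟩
  have : π (pt i) = p := by rw [← pt_idx p, ← e, pt_idx]
  rw [← this, Equiv.symm_apply_apply, idx_pt i hi]

theorem mem_M24_of {f : ℕ → ℕ} (hx : ∀ x < 2048, ∀ y < 2048, f (x ^^^ y) = f x ^^^ f y)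
    {π : Equiv.Perm GolayPt} (h : ∀ p q, f (du p q) = du (π p) (π q)) : π ∈ M24 := by
  have f0 : f 0 = 0 := by simpa [du] using h none none
  have sp : ∀ i < 24, syn (2 ^ i) = fp i := by decide +kernel
  have k : ∀ L : List (ℕ × ℕ), (∀ e ∈ L, e.1 < 24 ∧ e.2 < 24) → ∃ m < 2 ^ 24,
      wd (mk2 L) ∘ π.symm = wd m ∧ fx2 L < 2048 ∧ syn m = f (fx2 L) := fun L => by
    induction L with
    | nil => exact fun _ => ⟨0, by norm_num, by funext p; simp [mk2, wd_zero], by decide,
        f0.symm ▸ by decide +kernel⟩
    | cons e L ih =>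
      intro hL
      obtain ⟨m, h1, h2, h3, h4⟩ := ih fun e he => hL e (List.mem_cons_of_mem _ he)
      obtain ⟨e1, e2⟩ := hL e List.mem_cons_self
      have pw : ∀ p, 2 ^ idx p < 2 ^ 24 := fun p => Nat.pow_lt_pow_right (by norm_num) (idx_lt p)
      have d := h (pt e.1) (pt e.2)
      rw [du, idx_pt _ e1, idx_pt _ e2] at d
      have l := (fp_facts _ e1 _ e2).1
      refine ⟨2 ^ idx (π (pt e.1)) ^^^ 2 ^ idx (π (pt e.2)) ^^^ m,
        Nat.xor_lt_two_pow (Nat.xor_lt_two_pow (pw _) (pw _)) h1, ?_, xor_lt' l h3, ?_⟩
      · rw [wd_xor, wd_xor, ← h2, ← wd_pow e1, ← wd_pow e2]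
        show wd (2 ^ e.1 ^^^ 2 ^ e.2 ^^^ mk2 L) ∘ _ = _
        rw [wd_xor, wd_xor]; rfl
      · show _ = f (fp e.1 ^^^ fp e.2 ^^^ fx2 L)
        rw [hx _ l _ h3, d, ← h4, du, ← sp _ (idx_lt _), ← sp _ (idx_lt _), syn, xv_xor, xv_xor]
        rfl
  refine (inv_mem_iff (H := M24)).mp (mem_M24 fun g hg => ?_)
  have : ∀ g ∈ basis, ∃ L ∈ ([[(0, 2), (4, 5), (6, 10), (11, 23)], [(0, 1), (4, 6), (7, 8), (9, 11), (14, 15), (17, 22)], [(1, 2), (6, 10), (11, 12), (13, 14), (15, 16), (17, 21)], [(0, 1), (5, 9), (10, 11), (12, 13), (14, 15), (16, 20)], [(1, 2), (3, 4), (5, 7), (9, 10), (13, 14), (17, 19)], [(0, 1), (2, 3), (4, 6), (8, 9), (12, 13), (16, 18)], [(3, 4), (8, 9), (10, 12), (13, 17)], [(4, 5), (6, 7), (8, 11), (14, 16)], [(3, 4), (5, 6), (7, 10), (13, 15)], [(0, 1), (5, 6), (7, 9), (10, 14)], [(1, 2), (3, 4), (5, 8), (11, 13)], [(0, 1), (2, 3), (4, 7), (10, 12)]] : List (List (ℕ × ℕ))), (∀ e ∈ L, e.1 < 24 ∧ e.2 < 24) ∧ mk2 L = g ∧ fx2 L = 0 := by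
    decide +kernel
  obtain ⟨L, -, h1, rfl, h3⟩ := this g hg
  obtain ⟨m, k1, k2, -, k4⟩ := k L h1
  rw [h3, f0] at k4
  exact k2 ▸ mem_of_syn k1 k4

/-- two different pairs that meet -/
def Mtg (a b c d : ℕ) : Prop := (a = c ∨ a = d ∨ b = c ∨ b = d) ∧ ¬ (a = c ∧ b = d)

theorem star3 {a1 b1 a2 b2 a3 b3 a4 b4 : ℕ} (h1 : b1 < a1) (h2 : b2 < a2) (h3 : b3 < a3) (h4 : b4 < a4)
    (m12 : Mtg a1 b1 a2 b2) (m13 : Mtg a1 b1 a3 b3) (m23 : Mtg a2 b2 a3 b3) (m14 : Mtg a1 b1 a4 b4)
    (m24 : Mtg a2 b2 a4 b4) (m34 : Mtg a3 b3 a4 b4) :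
    (a2 = a1 ∨ b2 = a1) ∧ (a3 = a1 ∨ b3 = a1) ∨ (a2 = b1 ∨ b2 = b1) ∧ (a3 = b1 ∨ b3 = b1) := by
  unfold Mtg at *
  grind

theorem star4 {a1 b1 a2 b2 a3 b3 a4 b4 c : ℕ} (h1 : b1 < a1) (h2 : b2 < a2) (h3 : b3 < a3)
    (m12 : Mtg a1 b1 a2 b2) (m13 : Mtg a1 b1 a3 b3) (m23 : Mtg a2 b2 a3 b3) (m14 : Mtg a1 b1 a4 b4)
    (m24 : Mtg a2 b2 a4 b4) (m34 : Mtg a3 b3 a4 b4) (c1 : a1 = c ∨ b1 = c) (c2 : a2 = c ∨ b2 = c)
    (c3 : a3 = c ∨ b3 = c) : a4 = c ∨ b4 = c := by
  unfold Mtg at *
  grind

theorem exists_m {f : ℕ → ℕ} (hx : ∀ x < 2048, ∀ y < 2048, f (x ^^^ y) = f x ^^^ f y)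
    (hl : ∀ x < 2048, f x < 2048) (hi : ∀ x < 2048, ∀ y < 2048, f x = f y → x = y)
    (hD : ∀ x < 2048, isD x = true → isD (f x) = true) :
    ∃ m, ∀ p q, f (du p q) = du (psi m p) (psi m q) := by
  have f0 : f 0 = 0 := by simpa using hx 0 (by norm_num) 0 (by norm_num)
  have lt := fun p hp q hq => (fp_facts p hp q hq).1
  have fi : ∀ p < 24, ∀ q < 24, fp 0 ^^^ fp p = fp 0 ^^^ fp q → p = q := by decide +kernel
  have xx : ∀ c p q : ℕ, c ^^^ p ^^^ (c ^^^ q) = p ^^^ q := fun c p q => by
    rw [Nat.xor_comm c p, Nat.xor_assoc, Nat.xor_xor_cancel_left]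
  have ex : ∀ q, ∃ A B, 0 < q → q < 24 → A < 24 ∧ B < A ∧ f (fp 0 ^^^ fp q) = fp A ^^^ fp B :=
    fun q => by
      by_cases hq : 0 < q ∧ q < 24
      · have l := lt 0 (by norm_num) q hq.2
        obtain ⟨A, h1, B, h2, e⟩ := isD_du _ (List.mem_range.mpr (hl _ l))
          (hD _ l ((fp_facts 0 (by norm_num) q hq.2).2.resolve_left (by omega)))
        exact ⟨A, B, fun _ _ => ⟨List.mem_range.mp h1, List.mem_range.mp h2, e⟩⟩
      · exact ⟨0, 0, fun a b => absurd ⟨a, b⟩ hq⟩
  choose A B hAB using ex
  have mt : ∀ q r, 0 < q → q < 24 → 0 < r → r < 24 → q ≠ r →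
      Mtg (A q) (B q) (A r) (B r) :=
    fun q r a b c d n => by
      obtain ⟨q1, q2, q3⟩ := hAB q a b
      obtain ⟨r1, r2, r3⟩ := hAB r c d
      refine ⟨fp_meet _ (List.mem_range.mpr q1) _ (List.mem_range.mpr q2) _
        (List.mem_range.mpr r1) _ (List.mem_range.mpr r2) ?_, fun e => n (fi q b r d
          (hi _ (lt 0 (by norm_num) q b) _ (lt 0 (by norm_num) r d) (by rw [q3, r3, e.1, e.2])))⟩
      rw [← q3, ← r3, ← hx _ (lt 0 (by norm_num) q b) _ (lt 0 (by norm_num) r d), xx]
      exact hD _ (lt q b r d) ((fp_facts q b r d).2.resolve_left n)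
  obtain ⟨c, hc, hcc⟩ : ∃ c < 24, ∀ q, 0 < q → q < 24 → A q = c ∨ B q = c := by
    have a1 := hAB 1 (by norm_num) (by norm_num)
    have a2 := (hAB 2 (by norm_num) (by norm_num)).2.1
    have a3 := (hAB 3 (by norm_num) (by norm_num)).2.1
    have m12 := mt 1 2 (by norm_num) (by norm_num) (by norm_num) (by norm_num) (by norm_num)
    have m13 := mt 1 3 (by norm_num) (by norm_num) (by norm_num) (by norm_num) (by norm_num)
    have m23 := mt 2 3 (by norm_num) (by norm_num) (by norm_num) (by norm_num) (by norm_num)
    have mq := fun q (h1 : 3 < q) (h2 : q < 24) => And.intro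
      (mt 1 q (by norm_num) (by norm_num) (by omega) h2 (by omega)) (And.intro
      (mt 2 q (by norm_num) (by norm_num) (by omega) h2 (by omega))
      (mt 3 q (by norm_num) (by norm_num) (by omega) h2 (by omega)))
    have m4 := mq 4 (by norm_num) (by norm_num)
    obtain ⟨c, hc, c1, c2, c3⟩ : ∃ c < 24, (A 1 = c ∨ B 1 = c) ∧ (A 2 = c ∨ B 2 = c) ∧
        (A 3 = c ∨ B 3 = c) :=
      (star3 a1.2.1 a2 a3 (hAB 4 (by norm_num) (by norm_num)).2.1 m12 m13 m23 m4.1 m4.2.1
        m4.2.2).elim (fun h => ⟨A 1, a1.1, .inl rfl, h⟩) fun h => ⟨B 1, a1.2.1.trans a1.1, .inr rfl, h⟩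
    refine ⟨c, hc, fun q h1 h2 => ?_⟩
    by_cases h : 3 < q
    · exact star4 a1.2.1 a2 a3 m12 m13 m23 (mq q h h2).1 (mq q h h2).2.1 (mq q h h2).2.2 c1 c2 c3
    · interval_cases q <;> assumption
  obtain ⟨π0, hπ⟩ : ∃ π0 : ℕ → ℕ, ∀ q < 24, π0 q < 24 ∧ f (fp 0 ^^^ fp q) = fp c ^^^ fp (π0 q) :=
    ⟨fun q => if q = 0 then c else if A q = c then B q else A q, fun q hq => by
      by_cases h0 : q = 0
      · simp [h0, hc, f0]
      · obtain ⟨q1, q2, q3⟩ := hAB q (by omega) hq
        beta_reduce
        rw [if_neg h0, q3]
        split_ifs with h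
        · exact ⟨by omega, by rw [h]⟩
        · exact ⟨q1, by rw [(hcc q (by omega) hq).resolve_left h, Nat.xor_comm]⟩⟩
  have inj : Function.Injective fun p => pt (π0 (idx p)) := fun p q e => by
    have e' := M24.lab.inj _ (hπ _ (idx_lt p)).1 _ (hπ _ (idx_lt q)).1 e
    rw [← pt_idx p, ← pt_idx q, fi _ (idx_lt p) _ (idx_lt q) (hi _ (lt 0 (by norm_num) _ (idx_lt p)) _
      (lt 0 (by norm_num) _ (idx_lt q)) (by rw [(hπ _ (idx_lt p)).2, (hπ _ (idx_lt q)).2, e']))]
  have k : ∀ p q, f (du p q) = du (Equiv.ofBijective _ (Finite.injective_iff_bijective.mp inj) p)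
      (Equiv.ofBijective _ (Finite.injective_iff_bijective.mp inj) q) := fun p q => by
    show f (fp _ ^^^ fp _) = fp (idx (pt _)) ^^^ fp (idx (pt _))
    rw [idx_pt _ (hπ _ (idx_lt p)).1, idx_pt _ (hπ _ (idx_lt q)).1, ← xx (fp 0),
      hx _ (lt 0 (by norm_num) _ (idx_lt p)) _ (lt 0 (by norm_num) _ (idx_lt q)),
      (hπ _ (idx_lt p)).2, (hπ _ (idx_lt q)).2, xx]
  obtain ⟨m, hm⟩ : _ ∈ psi.range := psi_main.1 ▸ mem_M24_of hx k
  exact ⟨m, hm ▸ k⟩

end Cfsg.J4R
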