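import Cfsg.Agent.J4R.MT

/-! The chain of subgroups below the stabiliser of the elementary abelian group. -/

set_option autoImplicit false
set_option maxRecDepth 100000
set_option Elab.async false

namespace Cfsg.J4R.M

open Cfsg.H6

theorem sf0 (h : Cv X0 X1 ([] :: R0)) {c : Spor.J4} (hc : Cn c) (hX : c ∈ wd X0) : c ∈ wd X1 :=
  h.sift [([[2,6],[1,2,6],[2,3,6],[3,7],[1,2,3,6],[1,3,7],[3,6,7],[3,4,6,7],[2,7],[2,3,6,7],[1,3,6,7],[1,3,4,6,7],[1,2,7],[1,2,3,6,7],[2,3,5,6],[4,6,7],[2,4,5,7],[1,2,3,5,6],[1,4,6,7],[1,2,4,5,7],[4,5,7],[5,6,7],[5,6],[1,4,5,7],[1,5,6,7],[1,5,6],[4,5,6],[2,4,5,6],[3,4,7],[4,7],[1,4,5,6],[1,2,4,5,6],[1,3,4,7],[1,4,7],[2,3,5,6,7],[1,2,3,5,6,7]],[[0,1,2,3,4,5,6,7,8,9,10,11,12,13,14,15,16,17,18,19,20,21,22,23,24,25,26,27,28,29,30,31,32,33,34,35],[0,1,2,3,4,5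,6,7,8,9,10,11,12,13,14,15,16,17,18,19,20,21,22,23,24,25,26,27,28,29,30,31,32,33,34,35],[0,1,2,3,4,5,6,7,8,9,10,11,12,13,14,15,16,17,18,19,20,21,22,23,24,25,26,27,28,29,30,31,32,33,34,35],[0,1,2,3,4,5,6,7,8,9,10,11,12,13,14,15,16,17,18,19,20,21,22,23,24,25,26,27,28,29,30,31,32,33,34,35],[0,1,2,3,4,5,6,7,8,9,10,11,12,13,14,15,16,17,18,19,20,21,22,23,24,25,26,27,28,29,30,31,32,33,34,35],[0,1,2,3,4,5,6,7,8,9,10,11,12,13,14,15,16,17,18,19,20,21,22,23,24,25,26,27,28,29,30,31,32,33,34,35],[0,1,2,3,4,5,6,7,8,9,10,11,12,13,14,15,16,17,18,19,20,21,22,23,24,25,26,27,28,29,30,31,32,33,34,35],[1,0,4,3,2,5,6,7,12,13,10,11,8,9,17,15,19,14,18,16,20,21,22,23,24,25,26,31,28,29,30,27,32,33,35,34],[0,1,4,5,2,3,10,11,8,13,6,7,12,9,17,15,16,14,18,19,20,21,22,23,24,25,26,27,32,29,30,31,28,33,35,34],[0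,1,2,3,4,5,6,11,8,9,10,7,12,13,14,18,19,17,15,16,23,21,22,20,24,25,30,31,32,33,26,27,28,29,34,35],[0,1,2,3,4,5,6,7,8,9,10,11,12,13,17,15,19,14,18,16,23,24,25,20,21,22,30,31,28,29,26,27,32,33,35,34],[1,0,4,3,2,5,10,11,8,13,6,7,12,9,17,18,16,14,15,19,20,24,25,23,21,22,30,31,28,29,26,27,32,33,35,34],[0,1,2,5,4,3,10,11,12,13,6,7,8,9,14,18,19,17,15,16,23,24,22,20,21,25,26,27,32,33,30,31,28,29,35,34],[0,1,2,9,4,13,8,7,6,3,12,11,10,5,16,15,14,19,18,17,22,27,20,25,31,23,34,21,29,28,35,24,33,32,26,30],[0,1,6,9,10,13,2,14,8,3,4,17,12,5,7,21,16,11,24,19,26,15,29,30,18,33,20,27,34,22,23,31,35,25,28,32],[0,1,2,9,4,13,8,15,6,3,12,18,10,5,20,7,22,23,11,25,14,26,16,17,30,19,21,34,28,29,24,35,32,33,27,31],[0,1,7,9,11,13,14,2,16,3,17,4,19,5,6,15,8,10,18,12,22,21,20,25,24,23,29,27,34,26,33,31,35,30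,28,32],[2,4,0,6,1,10,3,7,9,8,5,11,13,12,16,15,14,19,18,17,22,26,20,25,30,23,21,34,28,29,24,35,32,33,27,31],[3,5,8,0,12,1,6,14,2,9,10,17,4,13,7,22,16,11,25,19,20,28,15,23,32,18,27,26,21,34,31,30,24,35,29,33],[0,1,2,3,4,5,6,7,8,9,10,11,12,13,14,15,16,17,18,19,20,21,22,23,24,25,26,27,28,29,30,31,32,33,34,35],[0,1,2,3,4,5,6,7,8,9,10,11,12,13,14,15,16,17,18,19,20,21,22,23,24,25,26,27,28,29,30,31,32,33,34,35],[0,1,2,3,4,5,6,7,8,9,10,11,12,13,14,15,16,17,18,19,20,21,22,23,24,25,26,27,28,29,30,31,32,33,34,35],[0,1,2,3,4,5,6,7,8,9,10,11,12,13,14,15,16,17,18,19,20,21,22,23,24,25,26,27,28,29,30,31,32,33,34,35]])] [(0,0),(0,0),(0,0),(0,0),(0,0),(0,0),(0,0),(0,0),(0,0),(0,0),(0,0),(0,0),(0,0),(0,0),(0,0),(0,0),(0,0),(0,0),(0,0),(0,0),(0,0),(0,0),(0,0),(0,0),(0,0),(0,0),(0,0),(0,0),(0,0),(0,0),(0,0),(0,0),(0,0),(0,0),(0,0),(0,0),(0,0),(0,0),(0,0),(0,0),(0,0),(0,0),(0,0),(0,0),(0,0),(0,0),(0,0),(0,0),(0,0),(0,0),(0,0),(0,0),(0,0),(0,0),(0,0),(0,0),(0,0),(0,0),(0,0),(0,0),(0,0),(0,0),(0,0),(0,0),(0,0),(0,0),(0,0),(0,0),(0,0),(0,0),(0,0),(0,0),(0,0),(0,0),(0,0),(0,0),(0,0)]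 (by decide +kernel) (by decide +kernel) hc hX

def X2 : List ℕ := [1,2,3,4,5,6,7,8,9,10,11,12,13,14,15,16,17,19,20,21,22,23]

def R1 : List (List ℕ) := [[18],[18,17],[18,17,16],[18,17,16,15],[18,17,16,15,14]]

theorem cv1 : Cv X1 X2 ([] :: R1) :=
  cv_of (T := [[(0,[1]),(0,[2]),(0,[3]),(0,[4]),(0,[5]),(0,[6]),(0,[7]),(0,[8]),(0,[9]),(0,[10]),(0,[11]),(0,[12]),(0,[13]),(0,[14]),(0,[15]),(0,[16]),(0,[17]),(1,[]),(0,[19]),(0,[20]),(0,[21]),(0,[22]),(0,[23])],[(1,[1]),(1,[2,3]),(1,[3]),(1,[4,6]),(1,[4,5,6,7]),(1,[6]),(1,[6,7]),(1,[8]),(1,[8,9]),(1,[10,11]),(1,[11]),(1,[10,11,12,13]),(1,[11,13]),(1,[14]),(1,[15,14,19]),(1,[16]),(2,[]),(0,[]),(1,[14,19,14]),(1,[20]),(1,[21]),(1,[22]),(1,[1,20,22,23])],[(2,[1]),(2,[2,3,4,5,6]),(2,[2,4,7]),(2,[4,5,6,7]),(2,[4,6]),(2,[4,5]),(2,[4]),(2,[9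]),(2,[8,9]),(2,[8,9,13]),(2,[8,12,13]),(2,[8,11,13]),(2,[9,10,11,12,13]),(2,[14]),(2,[15,14,19]),(3,[]),(1,[]),(2,[17]),(2,[19]),(2,[20]),(2,[21]),(2,[1,20,23]),(2,[1,20,22,23])],[(3,[1]),(3,[3,5,6,7]),(3,[2,4,7]),(3,[2,3,4,5,7]),(3,[3,5,6]),(3,[2,5,7]),(3,[2,3,4,6]),(3,[9,10,11,13]),(3,[8,11,12]),(3,[9,12]),(3,[8,12,13]),(3,[8,10]),(3,[8,9,10,11]),(3,[14]),(4,[]),(2,[]),(3,[16]),(3,[17]),(3,[14,19,14]),(3,[20]),(3,[1,20,21,23]),(3,[1,20,23]),(3,[22])],[(4,[1]),(4,[4]),(4,[5]),(4,[3,5,6]),(4,[2,3,4,5,7]),(4,[2,3,4,6]),(4,[2,5,7]),(4,[8,9,10,12,13]),(4,[8,11,12]),(4,[8,12,13]),(4,[9,12]),(4,[8,13]),(4,[9,12,13]),(5,[]),(3,[]),(4,[15,14,19]),(4,[16]),(4,[14,17,19]),(5,[19,14]),(4,[1,21,23]),(4,[1,20,21,23]),(4,[21]),(4,[22])],[(5,[1]),(5,[4,5]),(5,[5]),(5,[2]),(5,[2,3]),(5,[2,3,4,5,6]),(5,[3,5,6,7]),(5,[10,12,13]),(5,[10,11,13]),(5,[8,9,13]),(5,[9,12]),(5,[12,13]),(5,[13]),(4,[]),(5,[14]),(5,[15,14,19]),(5,[16]),(5,[14,17,19]),(4,[14,19]),(5,[1,21,23]),(5,[20]),(5,[21]),(5,[22])]])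 (allR_range (lo := 0) (n := 6) (by decide +kernel) rfl)

theorem sf1 (h : Cv X1 X2 ([] :: R1)) {c : Spor.J4} (hc : Cn c) (hX : c ∈ wd X1) : c ∈ wd X2 :=
  h.sift [([[2,6],[1,2,6],[3,7],[1,3,7],[2,3,6,7],[1,2,3,6,7]],[[0,1,2,3,4,5],[0,1,2,3,4,5],[0,1,2,3,4,5],[0,1,2,3,4,5],[0,1,2,3,4,5],[0,1,2,3,4,5],[0,1,2,3,4,5],[1,0,2,3,5,4],[0,1,3,2,5,4],[0,1,2,3,4,5],[0,1,2,3,4,5],[1,0,2,3,5,4],[0,1,3,2,5,4],[0,1,4,5,2,3],[0,1,4,5,2,3],[0,1,4,5,2,3],[0,1,4,5,2,3],[2,3,0,1,4,5],[0,1,2,3,4,5],[0,1,2,3,4,5],[0,1,2,3,4,5],[0,1,2,3,4,5]])] [(0,0),(0,0),(0,0),(0,0),(0,0),(0,0)] (by decide +kernel) (by decide +kernel) hc hX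

def X3 : List ℕ := [1,2,3,4,5,6,7,8,9,10,11,12,13,14,15,16,19,20,21,22,23]

def R2 : List (List ℕ) := [[17],[17,16],[17,16,15],[17,16,15,14]]

theorem cv2 : Cv X2 X3 ([] :: R2) :=
  cv_of (T := [[(0,[1]),(0,[2]),(0,[3]),(0,[4]),(0,[5]),(0,[6]),(0,[7]),(0,[8]),(0,[9]),(0,[10]),(0,[11]),(0,[12]),(0,[13]),(0,[14]),(0,[15]),(0,[16]),(1,[]),(0,[19]),(0,[20]),(0,[21]),(0,[22]),(0,[23])],[(1,[1]),(1,[2,5,6,7]),(1,[2,3,4,7]),(1,[5]),(1,[4]),(1,[5,7]),(1,[4,6]),(1,[8,9]),(1,[9]),(1,[9,11,13]),(1,[8,10,12]),(1,[8,13]),(1,[8,9,12]),(1,[14]),(1,[15]),(2,[]),(0,[]),(1,[14,19,14]),(1,[20]),(1,[21]),(1,[22,23]),(1,[23])],[(2,[1]),(2,[3,4,5,6]),(2,[2,3,4,7]),(2,[2,5,6]),(2,[3,4,5,7]),(2,[2,3,4,5]),(2,[2,4]),(2,[8,9,10,11,13]),(2,[8,10,12,13]),(2,[8,9,10,11,12,13]),(2,[8,10,12]),(2,[8,10,11]),(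2,[9,10]),(2,[14]),(3,[]),(1,[]),(2,[16]),(2,[19]),(2,[20]),(2,[21,22,23]),(2,[22,23]),(2,[22])],[(3,[1]),(3,[4,6]),(3,[4,5,6,7]),(3,[3,4,5,7]),(3,[2,5,6]),(3,[2,4]),(3,[2,3,4,5]),(3,[9,11,12]),(3,[8,10,12,13]),(3,[8,10,12]),(3,[8,9,10,11,12,13]),(3,[8,11,13]),(3,[8,9,10,12]),(4,[]),(2,[]),(3,[15]),(3,[16]),(4,[14,19]),(3,[20,21,22,23]),(3,[21,22,23]),(3,[21]),(3,[22])],[(4,[1]),(4,[5,7]),(4,[4,5,6,7]),(4,[2,3]),(4,[2]),(4,[2,5,6,7]),(4,[3,4,5,6]),(4,[11,12]),(4,[10,11,13]),(4,[9,11,13]),(4,[8,9,10,11,12,13]),(4,[10,12]),(4,[11,13]),(3,[]),(4,[14]),(4,[15]),(4,[16]),(3,[19,14]),(4,[20,21,22,23]),(4,[20]),(4,[21]),(4,[22])]]) (allR_range (lo := 0) (n := 5) (by decide +kernel) rfl)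

theorem sf2 (h : Cv X2 X3 ([] :: R2)) {c : Spor.J4} (hc : Cn c) (hX : c ∈ wd X2) : c ∈ wd X3 :=
  h.sift [([[2,3,6],[1,2,3,6],[3,6,7],[2,7],[1,3,6,7],[1,2,7]],[[0,1,2,3,4,5],[0,1,2,3,4,5],[0,1,2,3,4,5],[0,1,2,3,4,5],[0,1,2,3,4,5],[0,1,2,3,4,5],[0,1,2,3,4,5],[1,0,2,5,4,3],[1,0,4,3,2,5],[0,1,2,3,4,5],[0,1,2,3,4,5],[1,0,4,3,2,5],[0,1,4,5,2,3],[0,1,3,2,5,4],[2,4,0,3,1,5],[0,1,3,2,5,4],[3,5,2,0,4,1],[0,1,2,3,4,5],[0,1,2,3,4,5],[0,1,2,3,4,5],[0,1,2,3,4,5]])] [(0,0),(0,0),(0,0),(0,0),(0,0)] (by decide +kernel) (by decide +kernel) hc hX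

def X4 : List ℕ := [1,2,3,4,5,6,7,8,9,10,11,12,13,14,15,19,20,21,22,23]

def R3 : List (List ℕ) := [[16],[16,15],[16,15,14]]

theorem cv3 : Cv X3 X4 ([] :: R3) :=
  cv_of (T := [[(0,[1]),(0,[2]),(0,[3]),(0,[4]),(0,[5]),(0,[6]),(0,[7]),(0,[8]),(0,[9]),(0,[10]),(0,[11]),(0,[12]),(0,[13]),(0,[14]),(0,[15]),(1,[]),(0,[19]),(0,[20]),(0,[21]),(0,[22]),(0,[23])],[(1,[1]),(1,[2,3]),(1,[3]),(1,[2,4,6]),(1,[2,3,4,5,6,7]),(1,[3,6]),(1,[2,6,7]),(1,[8,10,11,13]),(1,[8,9,11,12]),(1,[10,11]),(1,[11]),(1,[10,11,12,13]),(1,[11,13]),(1,[14]),(2,[]),(0,[]),(1,[14,19,14]),(1,[20]),(1,[21,22]),(1,[22]),(1,[22,23])],[(2,[1]),(2,[7]),(2,[6,7]),(2,[2,3,4,5,6,7]),(2,[2,4,6]),(2,[2,6,7]),(2,[3,6]),(2,[9,10,12,13]),(2,[8,9,11,12]),(2,[11]),(2,[10,11]),(2,[8,10]),(2,[9,11]),(3,[]),(1,[]),(2,[15]),(3,[19,14]),(2,[20,21,22]),(2,[21,22]),(2,[21]),(2,[22,23])],[(3,[1]),(3,[6]),(3,[6,7]),(3,[3,4,5,6]),(3,[2,5,6,7]),(3,[2]),(3,[2,3]),(3,[10,12,13]),(3,[10,11,13]),(3,[10]),(3,[10,11]),(3,[8,9,11]),(3,[9,10]),(2,[]),(3,[14]),(3,[15]),(2,[14,19]),(3,[20,21,22]),(3,[20]),(3,[21]),(3,[22,23])]])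 (allR_range (lo := 0) (n := 4) (by decide +kernel) rfl)

theorem sf3 (h : Cv X3 X4 ([] :: R3)) {c : Spor.J4} (hc : Cn c) (hX : c ∈ wd X3) : c ∈ wd X4 :=
  h.sift [([[2,3,5,6],[1,2,3,5,6],[2,4,5,7],[3,4,6,7],[1,2,4,5,7],[1,3,4,6,7]],[[0,1,2,3,4,5],[0,1,2,3,4,5],[0,1,2,3,4,5],[0,1,2,3,4,5],[0,1,2,3,4,5],[0,1,2,3,4,5],[0,1,2,3,4,5],[1,0,4,3,2,5],[1,0,2,5,4,3],[0,1,4,5,2,3],[1,0,4,3,2,5],[1,0,2,5,4,3],[0,1,4,5,2,3],[2,4,0,3,1,5],[3,5,2,0,4,1],[3,5,2,0,4,1],[0,1,2,3,4,5],[0,1,2,3,4,5],[0,1,2,3,4,5],[0,1,2,3,4,5]])] [(0,0),(0,0),(0,0),(0,0)] (by decide +kernel) (by decide +kernel) hc hX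

def X5 : List ℕ := [1,2,3,4,5,6,7,8,9,10,11,12,13,14,19,20,21,22,23]

def R4 : List (List ℕ) := [[15],[15,14]]

theorem cv4 : Cv X4 X5 ([] :: R4) :=
  cv_of (T := [[(0,[1]),(0,[2]),(0,[3]),(0,[4]),(0,[5]),(0,[6]),(0,[7]),(0,[8]),(0,[9]),(0,[10]),(0,[11]),(0,[12]),(0,[13]),(0,[14]),(1,[]),(0,[19]),(0,[20]),(0,[21]),(0,[22]),(0,[23])],[(1,[1]),(1,[2,6,7]),(1,[2,3,7]),(1,[5]),(1,[4]),(1,[7]),(1,[6]),(1,[8,9]),(1,[9]),(1,[11]),(1,[10]),(1,[8,13]),(1,[8,9,12]),(2,[]),(0,[]),(2,[14,19]),(1,[20,21]),(1,[21]),(1,[21,22]),(1,[23])],[(2,[1]),(2,[3,6]),(2,[2,3,7]),(2,[3,5,6,7]),(2,[2,3,4,5,6]),(2,[2,3]),(2,[2]),(2,[11,12]),(2,[10,11,13]),(2,[10,11]),(2,[10]),(2,[9,10,11,12,13]),(2,[8,9,10,12]),(1,[]),(2,[14]),(1,[19,14]),(2,[20,21]),(2,[20]),(2,[21,22]),(2,[23])]]) (allR_range (lo := 0) (n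 := 3) (by decide +kernel) rfl)

theorem sf4 (h : Cv X4 X5 ([] :: R4)) {c : Spor.J4} (hc : Cn c) (hX : c ∈ wd X4) : c ∈ wd X5 :=
  h.sift [([[2],[1,2],[2,3],[1,2,3],[3],[1,3]],[[0,1,2,3,4,5],[0,1,2,3,4,5],[0,1,2,3,4,5],[0,1,2,3,4,5],[0,1,2,3,4,5],[0,1,2,3,4,5],[0,1,2,3,4,5],[1,0,3,2,4,5],[0,1,3,2,5,4],[0,1,2,3,4,5],[0,1,2,3,4,5],[0,1,2,3,4,5],[0,1,2,3,4,5],[2,3,0,1,4,5],[0,1,4,5,2,3],[0,1,2,3,4,5],[0,1,2,3,4,5],[0,1,2,3,4,5],[0,1,2,3,4,5]])] [(0,0),(0,0),(0,0)] (by decide +kernel) (by decide +kernel) hc hX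

def X6 : List ℕ := [1,2,3,4,5,6,7,8,9,10,11,12,13,20,21,22,23]

def R5 : List (List ℕ) := [[14],[19],[14,19],[19,14],[14,19,14]]

theorem cv5 : Cv X5 X6 ([] :: R5) :=
  cv_of (T := [[(0,[1]),(0,[2]),(0,[3]),(0,[4]),(0,[5]),(0,[6]),(0,[7]),(0,[8]),(0,[9]),(0,[10]),(0,[11]),(0,[12]),(0,[13]),(1,[]),(2,[]),(0,[20]),(0,[21]),(0,[22]),(0,[23])],[(1,[1]),(1,[2,3]),(1,[3]),(1,[2,3,4,6]),(1,[3,4,5,6,7]),(1,[3,6]),(1,[2,6,7]),(1,[8,10,13]),(1,[8,9,10,11,12]),(1,[10,11]),(1,[11]),(1,[10,11,12,13]),(1,[11,13]),(0,[]),(3,[]),(1,[20]),(1,[20,21]),(1,[22]),(1,[23])],[(2,[1]),(2,[2]),(2,[2,3]),(2,[2,5,7]),(2,[2,3,4,6]),(2,[2,3,7]),(2,[3,6]),(2,[8,9,10,11,12]),(2,[9,11,12,13]),(2,[11]),(2,[10]),(2,[11,13]),(2,[10,12]),(4,[]),(0,[]),(2,[20]),(2,[20,21]),(2,[22]),(2,[23])],[(3,[1]),(3,[2,3]),(3,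[2]),(3,[4,5]),(3,[4]),(3,[6,7]),(3,[6]),(3,[9]),(3,[8,9]),(3,[11]),(3,[10,11]),(3,[13]),(3,[12,13]),(5,[]),(1,[]),(3,[20]),(3,[21]),(3,[22]),(3,[23])],[(4,[1]),(4,[3]),(4,[2,3]),(4,[5]),(4,[4,5]),(4,[7]),(4,[6,7]),(4,[8,9]),(4,[8]),(4,[10,11]),(4,[10]),(4,[12,13]),(4,[12]),(2,[]),(5,[]),(4,[20]),(4,[21]),(4,[22]),(4,[23])],[(5,[1]),(5,[3]),(5,[2]),(5,[3,4,5,6,7]),(5,[2,5,7]),(5,[2,6,7]),(5,[2,3,7]),(5,[9,11,12,13]),(5,[8,10,13]),(5,[10]),(5,[10,11]),(5,[10,12]),(5,[10,11,12,13]),(3,[]),(4,[]),(5,[20]),(5,[20,21]),(5,[22]),(5,[23])]]) (allR_range (lo := 0) (n := 6) (by decide +kernel) rfl)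

theorem sf5 (h : Cv X5 X6 ([] :: R5)) {c : Spor.J4} (hc : Cn c) (hX : c ∈ wd X5) : c ∈ wd X6 :=
  h.sift [([[2],[1,2]],[[0,1],[0,1],[0,1],[0,1],[0,1],[0,1],[0,1],[1,0],[0,1],[0,1],[0,1],[0,1],[0,1],[0,1],[0,1],[0,1],[0,1]]),([[3],[1,3]],[[0,1],[0,1],[0,1],[0,1],[0,1],[0,1],[0,1],[0,1],[1,0],[0,1],[0,1],[0,1],[0,1],[0,1],[0,1],[0,1],[0,1]])] [(0,0),(0,0),(1,0),(0,0),(0,0),(0,0)] (by decide +kernel) (by decide +kernel) hc hX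

def X7 : List ℕ := [1,2,3,4,5,6,7,8,9,10,11,12,13,20,21,22]

def R6 : List (List ℕ) := [[23]]

theorem cv6 : Cv X6 X7 ([] :: R6) :=
  cv_of (T := [[(0,[1]),(0,[2]),(0,[3]),(0,[4]),(0,[5]),(0,[6]),(0,[7]),(0,[8]),(0,[9]),(0,[10]),(0,[11]),(0,[12]),(0,[13]),(0,[20]),(0,[21]),(0,[22]),(1,[])],[(1,[1]),(1,[2]),(1,[3]),(1,[4]),(1,[5]),(1,[6]),(1,[7]),(1,[4,8]),(1,[4,5,9]),(1,[1,2,3,5,6,10]),(1,[1,3,4,6,7,11]),(1,[4,5,12]),(1,[5,13]),(1,[20]),(1,[21]),(1,[22]),(0,[])]]) (allR_range (lo := 0) (n := 2) (by decide +kernel) rfl)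

theorem sf6 (h : Cv X6 X7 ([] :: R6)) {c : Spor.J4} (hc : Cn c) (hX : c ∈ wd X6) : c ∈ wd X7 :=
  h.sift [([[11],[1,11],[3,11],[6,11],[1,3,11],[1,6,11],[3,6,11],[1,3,6,11]],[[0,1,2,3,4,5,6,7],[0,1,2,3,4,5,6,7],[0,1,2,3,4,5,6,7],[0,1,2,3,4,5,6,7],[1,0,4,5,2,3,7,6],[0,1,2,3,4,5,6,7],[0,1,2,3,4,5,6,7],[0,1,2,3,4,5,6,7],[0,1,4,3,2,5,7,6],[0,1,2,3,4,5,6,7],[0,1,2,3,4,5,6,7],[0,1,2,5,4,3,7,6],[0,1,2,3,4,5,6,7],[2,4,0,6,1,7,3,5],[3,5,6,0,7,1,2,4],[2,4,0,6,1,7,3,5]])] [(0,0),(0,0)] (by decide +kernel) (by decide +kernel) hc hX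

def X8 : List ℕ := [1,2,3,4,5,6,7,8,9,10,11,12,13,20,21]

def R7 : List (List ℕ) := [[22]]

theorem cv7 : Cv X7 X8 ([] :: R7) :=
  cv_of (T := [[(0,[1]),(0,[2]),(0,[3]),(0,[4]),(0,[5]),(0,[6]),(0,[7]),(0,[8]),(0,[9]),(0,[10]),(0,[11]),(0,[12]),(0,[13]),(0,[20]),(0,[21]),(1,[])],[(1,[1]),(1,[2]),(1,[3]),(1,[4]),(1,[5]),(1,[6]),(1,[7]),(1,[1,3,4,6,7,8]),(1,[1,2,4,5,7,9]),(1,[2,3,10]),(1,[3,11]),(1,[2,12]),(1,[2,3,13]),(1,[20]),(1,[21]),(0,[])]]) (allR_range (lo := 0) (n := 2) (by decide +kernel) rfl)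

theorem sf7 (h : Cv X7 X8 ([] :: R7)) {c : Spor.J4} (hc : Cn c) (hX : c ∈ wd X7) : c ∈ wd X8 :=
  h.sift [([[8],[1,8],[1,3,4,7,8],[3,4,7,8]],[[0,1,2,3],[1,0,3,2],[0,1,2,3],[0,1,2,3],[0,1,2,3],[0,1,2,3],[0,1,2,3],[0,1,2,3],[0,1,3,2],[0,1,3,2],[0,1,2,3],[0,1,2,3],[0,1,3,2],[2,3,0,1],[0,1,2,3]])] [(0,0),(0,0)] (by decide +kernel) (by decide +kernel) hc hX

def X9 : List ℕ := [1,2,3,4,5,6,7,8,9,10,11,12,13,20]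

def R8 : List (List ℕ) := [[21]]

theorem cv8 : Cv X8 X9 ([] :: R8) :=
  cv_of (T := [[(0,[1]),(0,[2]),(0,[3]),(0,[4]),(0,[5]),(0,[6]),(0,[7]),(0,[8]),(0,[9]),(0,[10]),(0,[11]),(0,[12]),(0,[13]),(0,[20]),(1,[])],[(1,[1]),(1,[2]),(1,[3]),(1,[4]),(1,[5]),(1,[6]),(1,[7]),(1,[8]),(1,[9]),(1,[7,10]),(1,[6,11]),(1,[5,12]),(1,[4,13]),(1,[20]),(0,[])]]) (allR_range (lo := 0) (n := 2) (by decide +kernel) rfl)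

theorem sf8 (h : Cv X8 X9 ([] :: R8)) {c : Spor.J4} (hc : Cn c) (hX : c ∈ wd X8) : c ∈ wd X9 :=
  h.sift [([[11,12],[1,11,12]],[[0,1],[0,1],[0,1],[0,1],[1,0],[1,0],[0,1],[0,1],[0,1],[0,1],[0,1],[0,1],[0,1],[0,1]])] [(0,0),(0,0)] (by decide +kernel) (by decide +kernel) hc hX

def X10 : List ℕ := [1,2,3,4,5,6,7,8,9,10,11,12,13]

def R9 : List (List ℕ) := [[20]]

theorem cv9 : Cv X9 X10 ([] :: R9) :=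
  cv_of (T := [[(0,[1]),(0,[2]),(0,[3]),(0,[4]),(0,[5]),(0,[6]),(0,[7]),(0,[8]),(0,[9]),(0,[10]),(0,[11]),(0,[12]),(0,[13]),(1,[])],[(1,[1]),(1,[2]),(1,[3]),(1,[4]),(1,[5]),(1,[6]),(1,[7]),(1,[1,3,4,7,8]),(1,[1,2,4,5,6,9]),(1,[2,3,10]),(1,[3,11]),(1,[3,12]),(1,[2,13]),(0,[])]]) (allR_range (lo := 0) (n := 2) (by decide +kernel) rfl)

theorem sf9 (h : Cv X9 X10 ([] :: R9)) {c : Spor.J4} (hc : Cn c) (hX : c ∈ wd X9) : c ∈ wd X10 :=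
  h.sift [([[8],[1,8]],[[0,1],[1,0],[0,1],[0,1],[0,1],[0,1],[0,1],[0,1],[0,1],[0,1],[0,1],[0,1],[0,1]])] [(0,0),(0,0)] (by decide +kernel) (by decide +kernel) hc hX

def X11 : List ℕ := [1,2,3,4,5,6,7,8,9,10,11,12]

def R10 : List (List ℕ) := [[13]]

theorem cv10 : Cv X10 X11 ([] :: R10) :=
  cv_of (T := [[(0,[1]),(0,[2]),(0,[3]),(0,[4]),(0,[5]),(0,[6]),(0,[7]),(0,[8]),(0,[9]),(0,[10]),(0,[11]),(0,[12]),(1,[])],[(1,[1]),(1,[2]),(1,[3]),(1,[4]),(1,[5]),(1,[6]),(1,[1,7]),(1,[8]),(1,[9]),(1,[10]),(1,[11]),(1,[12]),(0,[])]]) (allR_range (lo := 0) (n := 2) (by decide +kernel) rfl)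

theorem sf10 (h : Cv X10 X11 ([] :: R10)) {c : Spor.J4} (hc : Cn c) (hX : c ∈ wd X10) : c ∈ wd X11 :=
  h.sift [([[7]],[[0],[0],[0],[0],[0],[0],[0],[0],[0],[0],[0],[0]])] [(0,0),(0,0)] (by decide +kernel) (by decide +kernel) hc hX

def X12 : List ℕ := [1,2,3,4,5,6,7,8,9,10,11]

def R11 : List (List ℕ) := [[12]]

theorem cv11 : Cv X11 X12 ([] :: R11) :=
  cv_of (T := [[(0,[1]),(0,[2]),(0,[3]),(0,[4]),(0,[5]),(0,[6]),(0,[7]),(0,[8]),(0,[9]),(0,[10]),(0,[11]),(1,[])],[(1,[1]),(1,[2]),(1,[3]),(1,[4]),(1,[5]),(1,[1,6]),(1,[7]),(1,[8]),(1,[9]),(1,[10]),(1,[11]),(0,[])]]) (allR_range (lo := 0) (n := 2) (by decide +kernel) rfl)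

theorem sf11 (h : Cv X11 X12 ([] :: R11)) {c : Spor.J4} (hc : Cn c) (hX : c ∈ wd X11) : c ∈ wd X12 :=
  h.sift [([[6]],[[0],[0],[0],[0],[0],[0],[0],[0],[0],[0],[0]])] [(0,0),(0,0)] (by decide +kernel) (by decide +kernel) hc hX

def X13 : List ℕ := [1,2,3,4,5,6,7,8,9,10]

def R12 : List (List ℕ) := [[11]]

theorem cv12 : Cv X12 X13 ([] :: R12) :=
  cv_of (T := [[(0,[1]),(0,[2]),(0,[3]),(0,[4]),(0,[5]),(0,[6]),(0,[7]),(0,[8]),(0,[9]),(0,[10]),(1,[])],[(1,[1]),(1,[2]),(1,[3]),(1,[4]),(1,[1,5]),(1,[6]),(1,[7]),(1,[8]),(1,[9]),(1,[10]),(0,[])]]) (allR_range (lo := 0) (n := 2) (by decide +kernel) rfl)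

theorem sf12 (h : Cv X12 X13 ([] :: R12)) {c : Spor.J4} (hc : Cn c) (hX : c ∈ wd X12) : c ∈ wd X13 :=
  h.sift [([[5]],[[0],[0],[0],[0],[0],[0],[0],[0],[0],[0]])] [(0,0),(0,0)] (by decide +kernel) (by decide +kernel) hc hX

def X14 : List ℕ := [1,2,3,4,5,6,7,8,9]

def R13 : List (List ℕ) := [[10]]

theorem cv13 : Cv X13 X14 ([] :: R13) :=
  cv_of (T := [[(0,[1]),(0,[2]),(0,[3]),(0,[4]),(0,[5]),(0,[6]),(0,[7]),(0,[8]),(0,[9]),(1,[])],[(1,[1]),(1,[2]),(1,[3]),(1,[1,4]),(1,[5]),(1,[6]),(1,[7]),(1,[8]),(1,[9]),(0,[])]]) (allR_range (lo := 0) (n := 2) (by decide +kernel) rfl)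

theorem sf13 (h : Cv X13 X14 ([] :: R13)) {c : Spor.J4} (hc : Cn c) (hX : c ∈ wd X13) : c ∈ wd X14 :=
  h.sift [([[4]],[[0],[0],[0],[0],[0],[0],[0],[0],[0]])] [(0,0),(0,0)] (by decide +kernel) (by decide +kernel) hc hX

def X15 : List ℕ := [1,2,3,4,5,6,7,8]

def R14 : List (List ℕ) := [[9]]

theorem cv14 : Cv X14 X15 ([] :: R14) :=
  cv_of (T := [[(0,[1]),(0,[2]),(0,[3]),(0,[4]),(0,[5]),(0,[6]),(0,[7]),(0,[8]),(1,[])],[(1,[1]),(1,[2]),(1,[1,3]),(1,[4]),(1,[5]),(1,[6]),(1,[7]),(1,[8]),(0,[])]]) (allR_range (lo := 0) (n := 2) (by decide +kernel) rfl)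

theorem sf14 (h : Cv X14 X15 ([] :: R14)) {c : Spor.J4} (hc : Cn c) (hX : c ∈ wd X14) : c ∈ wd X15 :=
  h.sift [([[3]],[[0],[0],[0],[0],[0],[0],[0],[0]])] [(0,0),(0,0)] (by decide +kernel) (by decide +kernel) hc hX

def X16 : List ℕ := [1,2,3,4,5,6,7]

def R15 : List (List ℕ) := [[8]]

theorem cv15 : Cv X15 X16 ([] :: R15) :=
  cv_of (T := [[(0,[1]),(0,[2]),(0,[3]),(0,[4]),(0,[5]),(0,[6]),(0,[7]),(1,[])],[(1,[1]),(1,[1,2]),(1,[3]),(1,[4]),(1,[5]),(1,[6]),(1,[7]),(0,[])]]) (allR_range (lo := 0) (n := 2) (by decide +kernel) rfl)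

theorem sf15 (h : Cv X15 X16 ([] :: R15)) {c : Spor.J4} (hc : Cn c) (hX : c ∈ wd X15) : c ∈ wd X16 :=
  h.sift [([[2]],[[0],[0],[0],[0],[0],[0],[0]])] [(0,0),(0,0)] (by decide +kernel) (by decide +kernel) hc hX

def X17 : List ℕ := [1,2,3,4,5,6]

def R16 : List (List ℕ) := [[7]]

theorem cv16 : Cv X16 X17 ([] :: R16) :=
  cv_of (T := [[(0,[1]),(0,[2]),(0,[3]),(0,[4]),(0,[5]),(0,[6]),(1,[])],[(1,[1]),(1,[2]),(1,[3]),(1,[4]),(1,[5]),(1,[6]),(0,[])]]) (allR_range (lo := 0) (n := 2) (by decide +kernel) rfl)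

theorem sf16 (h : Cv X16 X17 ([] :: R16)) {c : Spor.J4} (hc : Cn c) (hX : c ∈ wd X16) : c ∈ wd X17 :=
  h.sift [([[13]],[[0],[0],[0],[0],[0],[0]])] [(0,0),(0,0)] (by decide +kernel) (by decide +kernel) hc hX

def X18 : List ℕ := [1,2,3,4,5]

def R17 : List (List ℕ) := [[6]]

theorem cv17 : Cv X17 X18 ([] :: R17) :=
  cv_of (T := [[(0,[1]),(0,[2]),(0,[3]),(0,[4]),(0,[5]),(1,[])],[(1,[1]),(1,[2]),(1,[3]),(1,[4]),(1,[5]),(0,[])]]) (allR_range (lo := 0) (n := 2) (by decide +kernel) rfl)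

theorem sf17 (h : Cv X17 X18 ([] :: R17)) {c : Spor.J4} (hc : Cn c) (hX : c ∈ wd X17) : c ∈ wd X18 :=
  h.sift [([[12]],[[0],[0],[0],[0],[0]])] [(0,0),(0,0)] (by decide +kernel) (by decide +kernel) hc hX

def X19 : List ℕ := [1,2,3,4]

def R18 : List (List ℕ) := [[5]]

theorem cv18 : Cv X18 X19 ([] :: R18) :=
  cv_of (T := [[(0,[1]),(0,[2]),(0,[3]),(0,[4]),(1,[])],[(1,[1]),(1,[2]),(1,[3]),(1,[4]),(0,[])]]) (allR_range (lo := 0) (n := 2) (by decide +kernel) rfl)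

theorem sf18 (h : Cv X18 X19 ([] :: R18)) {c : Spor.J4} (hc : Cn c) (hX : c ∈ wd X18) : c ∈ wd X19 :=
  h.sift [([[11]],[[0],[0],[0],[0]])] [(0,0),(0,0)] (by decide +kernel) (by decide +kernel) hc hX

def X20 : List ℕ := [1,2,3]

def R19 : List (List ℕ) := [[4]]

theorem cv19 : Cv X19 X20 ([] :: R19) :=
  cv_of (T := [[(0,[1]),(0,[2]),(0,[3]),(1,[])],[(1,[1]),(1,[2]),(1,[3]),(0,[])]]) (allR_range (lo := 0) (n := 2) (by decide +kernel) rfl)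

theorem sf19 (h : Cv X19 X20 ([] :: R19)) {c : Spor.J4} (hc : Cn c) (hX : c ∈ wd X19) : c ∈ wd X20 :=
  h.sift [([[10]],[[0],[0],[0]])] [(0,0),(0,0)] (by decide +kernel) (by decide +kernel) hc hX

def X21 : List ℕ := [1,2]

def R20 : List (List ℕ) := [[3]]

theorem cv20 : Cv X20 X21 ([] :: R20) :=
  cv_of (T := [[(0,[1]),(0,[2]),(1,[])],[(1,[1]),(1,[2]),(0,[])]]) (allR_range (lo := 0) (n := 2) (by decide +kernel) rfl)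

theorem sf20 (h : Cv X20 X21 ([] :: R20)) {c : Spor.J4} (hc : Cn c) (hX : c ∈ wd X20) : c ∈ wd X21 :=
  h.sift [([[9]],[[0],[0]])] [(0,0),(0,0)] (by decide +kernel) (by decide +kernel) hc hX

def X22 : List ℕ := [1]

def R21 : List (List ℕ) := [[2]]

theorem cv21 : Cv X21 X22 ([] :: R21) :=
  cv_of (T := [[(0,[1]),(1,[])],[(1,[1]),(0,[])]]) (allR_range (lo := 0) (n := 2) (by decide +kernel) rfl)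

theorem sf21 (h : Cv X21 X22 ([] :: R21)) {c : Spor.J4} (hc : Cn c) (hX : c ∈ wd X21) : c ∈ wd X22 :=
  h.sift [([[8]],[[0]])] [(0,0),(0,0)] (by decide +kernel) (by decide +kernel) hc hX

end Cfsg.J4R.M
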