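import Cfsg.Agent.J4R.M3

/-! The coset table of index 77. -/

set_option autoImplicit false
set_option maxRecDepth 100000
set_option Elab.async false

namespace Cfsg.J4R.M

open Cfsg.H6

def X0 : List ℕ := [1,2,3,4,5,6,7,8,9,10,11,12,13,14,15,16,17,18,19,20,21,22,23,24]

def X1 : List ℕ := [1,2,3,4,5,6,7,8,9,10,11,12,13,14,15,16,17,18,19,20,21,22,23]

def R0 : List (List ℕ) := [[24],[24,15],[24,17],[24,21],[24,23],[24,15,14],[24,15,17],[24,15,20],[24,15,23],[24,17,16],[24,17,21],[24,17,22],[24,21,23],[24,15,14,17],[24,15,14,20],[24,15,14,23],[24,15,17,16],[24,15,17,18],[24,15,17,20],[24,15,17,22],[24,15,17,23],[24,15,17,24],[24,15,20,23],[24,15,23,16],[24,15,23,24],[24,17,16,21],[24,17,16,22],[24,17,21,16],[24,17,21,22],[24,17,21,24],[24,15,14,17,16],[24,15,14,17,18],[24,15,14,17,20],[24,1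5,14,17,22],[24,15,14,17,23],[24,15,14,17,24],[24,15,14,23,24],[24,15,17,16,20],[24,15,17,16,21],[24,15,17,16,22],[24,15,17,18,20],[24,15,17,18,22],[24,15,17,23,18],[24,15,17,24,15],[24,15,17,24,20],[24,15,17,24,21],[24,15,20,23,24],[24,15,23,16,24],[24,15,23,24,15],[24,15,23,24,23],[24,17,16,21,24],[24,17,21,16,24],[24,17,21,22,24],[24,17,21,24,17],[24,17,21,24,21],[24,15,14,17,16,15],[24,15,14,17,16,20],[24,15,14,17,16,21],[24,15,14,17,18,20],[24,15,14,17,18,22],[24,15,14,17,23,16],[24,15,14,17,23,18],[24,15,14,17,24,20],[24,15,14,17,24,21],[24,15,14,17,24,22],[24,15,14,23,24,21],[24,15,14,23,24,23],[24,15,17,24,15,20],[24,15,17,24,15,21],[24,15,17,24,20,15],[24,15,17,24,20,21],[24,15,20,23,24,15],[24,15,20,23,24,17],[24,15,23,24,23,24],[24,17,21,24,21,24],[24,15,14,17,16,15,20]]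

def T0 : List (List (ℕ × List ℕ)) := [[(0,[1]),(0,[2]),(0,[3]),(0,[4]),(0,[5]),(0,[6]),(0,[7]),(0,[8]),(0,[9]),(0,[10]),(0,[11]),(0,[12]),(0,[13]),(0,[14]),(0,[15]),(0,[16]),(0,[17]),(0,[18]),(0,[19]),(0,[20]),(0,[21]),(0,[22]),(0,[23]),(1,[])],[(1,[1]),(1,[2]),(1,[3]),(1,[1,4,11,13]),(1,[1,5,10,12]),(1,[6,11]),(1,[7,10]),(1,[8]),(1,[9]),(1,[10]),(1,[11]),(1,[12]),(1,[13]),(1,[14]),(2,[]),(1,[16]),(3,[]),(1,[18]),(1,[19]),(1,[16,18,20]),(4,[]),(1,[14,18,22]),(5,[]),(0,[])],[(2,[1]),(2,[2,6,7,10,11]),(2,[2,3,7,10]),(2,[1,5,10,12]),(2,[1,4,11,13]),(2,[7,10]),(2,[6,11]),(2,[8,9]),(2,[9]),(2,[11]),(2,[10]),(2,[8,13]),(2,[8,9,12]),(6,[]),(1,[]),(6,[15,14,16,15]),(7,[]),(2,[14,19,18]),(6,[14,19]),(8,[]),(8,[16,18,20]),(8,[14,16,20,22]),(9,[]),(6,[14,15,14])],[(3,[1]),(3,[2,5,6,7,11,12]),(3,[2,3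,4,7,10,11,13]),(3,[1,5,10,12]),(3,[1,4,11,13]),(3,[1,5,7,12]),(3,[1,4,6,13]),(3,[8,9]),(3,[9]),(3,[9,11,13]),(3,[8,10,12]),(3,[8,13]),(3,[8,9,12]),(3,[14]),(7,[]),(10,[]),(1,[]),(10,[17,16,18,17]),(3,[14,19,14]),(3,[16,18,20]),(11,[]),(12,[]),(12,[14,18,22]),(10,[16,17,16])],[(4,[1]),(4,[2]),(4,[3]),(4,[1,4,11,13]),(4,[1,5,10,12]),(4,[6,11]),(4,[7,10]),(4,[8]),(4,[9]),(4,[7]),(4,[6]),(4,[1,5,10]),(4,[1,4,11]),(4,[14,16,18,20]),(8,[16,18,20]),(4,[14,16,18,22]),(11,[]),(4,[18]),(4,[16,18,19,20]),(4,[16,18,20]),(1,[]),(4,[14,18,22]),(13,[]),(4,[14,15,14,16,15,14,21])],[(5,[1]),(5,[2]),(5,[3]),(5,[1,4,11,13]),(5,[1,5,10,12]),(5,[6,11]),(5,[7,10]),(5,[1,4,8,11,13]),(5,[1,4,5,9,10,11,12,13]),(5,[1,2,3,5,6,11,12]),(5,[1,3,4,6,7,10,11,13]),(5,[1,4,5,10,11,13]),(5,[1,5,10,12,13]),(5,[14]),(9,[]),(5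,[14,16,18,22]),(12,[14,18,22]),(5,[1,14,16,18,20,22]),(5,[19]),(5,[16,18,20]),(13,[]),(5,[14,18,22]),(1,[]),(5,[16,17,16,18,17,16,23])],[(6,[1]),(6,[3,6,11]),(6,[2,3,7,10]),(6,[3,5,6,7,11,12]),(6,[2,3,4,5,6,10,12,13]),(6,[2,3]),(6,[2]),(6,[11,12]),(6,[10,11,13]),(6,[10,11]),(6,[10]),(6,[9,10,11,12,13]),(6,[8,9,10,12]),(2,[]),(6,[14]),(2,[15,14,16,15]),(14,[]),(6,[14,19,18]),(2,[19,14]),(15,[]),(6,[16,18,20]),(15,[14,16,20,22]),(16,[]),(2,[14,15,14])],[(7,[1]),(7,[1,2,4,11,13]),(7,[1,3,5,10,12]),(7,[1,4,11,13]),(7,[1,5,10,12]),(7,[1,4,6,13]),(7,[1,5,7,12]),(7,[8]),(7,[9]),(7,[8,10,12]),(7,[9,11,13]),(7,[12]),(7,[13]),(14,[]),(3,[]),(17,[]),(2,[]),(18,[]),(14,[19,14]),(19,[]),(19,[16,18,20]),(20,[]),(21,[]),(22,[])],[(8,[1]),(8,[2,6,7,10,11]),(8,[2,3,7,10]),(8,[1,5,10,12]),(8,[1,4,11,13]),(8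,[7,10]),(8,[6,11]),(8,[1,2,3,5,6,7,8,9,11,12]),(8,[1,2,4,5,6,9,10,12,13]),(8,[3,6]),(8,[2,3,7]),(8,[2,3,7,8,10,13]),(8,[2,6,7,8,9,10,11,12]),(15,[]),(4,[16,18,20]),(15,[15,14,16,15]),(19,[]),(8,[14,19,18]),(15,[14,19]),(2,[]),(2,[16,18,20]),(2,[14,16,20,22]),(23,[]),(8,[15,16,18,15])],[(9,[1]),(9,[2,6,7,10,11]),(9,[2,3,7,10]),(9,[1,5,10,12]),(9,[1,4,11,13]),(9,[7,10]),(9,[6,11]),(9,[1,5,8,9,10,12]),(9,[1,4,5,9,10,11,12,13]),(9,[1,3,4,6,7,10,11,13]),(9,[1,2,3,5,6,11,12]),(9,[1,4,5,8,10,11,12]),(9,[1,4,8,9,11,12,13]),(16,[]),(5,[]),(24,[]),(21,[]),(9,[1,16,19,18,20,22]),(16,[14,19]),(23,[]),(23,[16,18,20]),(23,[14,16,20,22]),(2,[]),(25,[])],[(10,[1]),(10,[3,4,5,6,10,12,13]),(10,[2,3,4,7,10,11,13]),(10,[2,5,6,10,11,12]),(10,[3,4,5,7,11,12,13]),(10,[1,2,3,4,5,10,11,12,13]),(10,[1,2,4,11,13]),(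10,[8,9,10,11,13]),(10,[8,10,12,13]),(10,[8,9,10,11,12,13]),(10,[8,10,12]),(10,[8,10,11]),(10,[9,10]),(10,[14]),(18,[14,17,16,18,17,19]),(3,[]),(10,[16]),(3,[17,16,18,17]),(10,[19]),(10,[16,18,20]),(26,[]),(27,[]),(10,[14,18,22]),(3,[16,17,16])],[(11,[1]),(11,[2,5,6,7,11,12]),(11,[2,3,4,7,10,11,13]),(11,[1,5,10,12]),(11,[1,4,11,13]),(11,[1,5,7,12]),(11,[1,4,6,13]),(11,[8,9]),(11,[9]),(11,[1,4,6,9,11]),(11,[1,5,7,8,10]),(11,[1,4,8,11]),(11,[1,5,8,9,10]),(11,[14,16,18,20]),(19,[16,18,20]),(28,[]),(4,[]),(26,[17,16,18,17]),(11,[16,19,18,20]),(11,[16,18,20]),(3,[]),(29,[]),(29,[14,18,22]),(30,[])],[(12,[1]),(12,[2,5,6,7,11,12]),(12,[2,3,4,7,10,11,13]),(12,[1,5,10,12]),(12,[1,4,11,13]),(12,[1,5,7,12]),(12,[1,4,6,13]),(12,[1,2,3,6,8,9,11]),(12,[1,2,7,9,10]),(12,[3,4,5,6,9,10,11,12]),(12,[2,3,4,7,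8,11,12,13]),(12,[2,5,6,7,8,11,12,13]),(12,[3,4,5,6,8,9,10,13]),(12,[14]),(21,[14,18,22]),(27,[]),(5,[14,18,22]),(27,[17,16,18,17]),(12,[14,19,14]),(12,[16,18,20]),(29,[]),(3,[]),(3,[14,18,22]),(12,[14,17,18,17])],[(13,[1]),(13,[2]),(13,[3]),(13,[1,4,11,13]),(13,[1,5,10,12]),(13,[6,11]),(13,[7,10]),(13,[1,4,8,11,13]),(13,[1,4,5,9,10,11,12,13]),(13,[1,2,3,5,6,7,10,11,12]),(13,[1,3,4,7,10,13]),(13,[1,4,11,12,13]),(13,[1,4,5,10,11,12]),(13,[14,16,18,20]),(23,[16,18,20]),(13,[16]),(29,[14,18,22]),(13,[1,14,16,18,20,22]),(13,[16,18,19,20]),(13,[16,18,20]),(5,[]),(13,[14,18,22]),(4,[]),(13,[14,15,14,16,15,18,17,23,16,15,18,17,16,19,15])],[(14,[1]),(14,[1,2,3,4,5,10,11,12,13]),(14,[1,3,5,10,12]),(14,[2,3,4,5,6,10,12,13]),(14,[3,5,6,7,11,12]),(14,[3,4,5,6,10,12,13]),(14,[2,5,6,7,11,12]),(14,[10,12,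13]),(14,[10,11,13]),(14,[8,9,10,11,12,13]),(14,[9,11,13]),(14,[8,9,10,11]),(14,[9,11]),(7,[]),(14,[14]),(31,[]),(6,[]),(32,[]),(7,[14,19]),(33,[]),(14,[16,18,20]),(34,[]),(35,[]),(36,[])],[(15,[1]),(15,[3,6,11]),(15,[2,3,7,10]),(15,[3,5,6,7,11,12]),(15,[2,3,4,5,6,10,12,13]),(15,[2,3]),(15,[2]),(15,[1,5,6,10]),(15,[1,4,6,7,11]),(15,[2,6,7]),(15,[2,3,7]),(15,[2,3,7,9,11,12,13]),(15,[3,6,8,9,10,11,12]),(8,[]),(15,[14,16,18,20]),(8,[15,14,16,15]),(33,[]),(15,[14,19,18]),(8,[19,14]),(6,[]),(15,[16,18,20]),(6,[14,16,20,22]),(24,[14,15,14,16,15,14,20,22]),(15,[15,16,18,15])],[(16,[1]),(16,[3,6,11]),(16,[2,3,7,10]),(16,[3,5,6,7,11,12]),(16,[2,3,4,5,6,10,12,13]),(16,[2,3]),(16,[2]),(16,[3,5,6,7]),(16,[2,4,7]),(16,[1,2,4,5,7,10,12,13]),(16,[1,2,3,5,6,11,12]),(16,[2,4,7,9,12]),(16,[2,3,4,5,6,8,9,13])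,(9,[]),(16,[14]),(23,[14,15,14,16,15,14,20,22]),(35,[]),(16,[1,16,19,18,20,22]),(9,[19,14]),(24,[14,15,14,16,15,14,20,22]),(16,[16,18,20]),(24,[15,14,16,15]),(6,[]),(37,[])],[(17,[1]),(17,[1,2,3,4,5,10,11,12,13]),(17,[1,3,5,10,12]),(17,[1,2,4,6,13]),(17,[1,2,3,4,5,6,7,12,13]),(17,[3,4,5,6,10,12,13]),(17,[2,5,6,7,11,12]),(17,[9,10,11,12]),(17,[8,11,12,13]),(17,[8,9,10,11,12,13]),(17,[9,11,13]),(17,[8,9,10,11]),(17,[9,11]),(31,[]),(36,[1,15,14,16,17,16,15,14]),(7,[]),(31,[15,14,16,15]),(36,[1,15,14,17,16,18,15,17]),(31,[14,19]),(38,[]),(39,[]),(40,[]),(38,[14,16,20,22]),(32,[1,15,14,17,16,18,15,17])],[(18,[1]),(18,[1,2,3,4,5,10,11,12,13]),(18,[1,3,5,10,12]),(18,[6,11]),(18,[6,7,10,11]),(18,[1,4,6,13]),(18,[1,4,5,6,7,12,13]),(18,[8]),(18,[8,9]),(18,[8,9,10,11,12,13]),(18,[9,11,13]),(18,[8,9,1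0,11]),(18,[9,11]),(32,[]),(10,[14,17,16,18,19,17]),(36,[1,15,14,17,16,18,15,17]),(18,[14,19,18]),(7,[]),(32,[14,19]),(41,[]),(41,[16,18,20]),(42,[]),(18,[1,14,16,20,22]),(31,[1,15,14,17,16,18,15,17])],[(19,[1]),(19,[1,2,4,11,13]),(19,[1,3,5,10,12]),(19,[1,4,11,13]),(19,[1,5,10,12]),(19,[1,4,6,13]),(19,[1,5,7,12]),(19,[1,3,4,7,8,10,11,13]),(19,[1,2,4,5,6,9,10,12,13]),(19,[1,2,3,4,5,8,11,13]),(19,[1,3,5,9,10,11,12,13]),(19,[1,3,5,10]),(19,[1,2,4,11]),(33,[]),(11,[16,18,20]),(38,[]),(8,[]),(41,[]),(33,[19,14]),(7,[]),(7,[16,18,20]),(21,[14,16,20,22]),(20,[14,16,20,22]),(33,[1,15,14,17,16,18,15,17])],[(20,[1]),(20,[1,2,4,11,13]),(20,[1,3,5,10,12]),(20,[1,4,11,13]),(20,[1,5,10,12]),(20,[1,4,6,13]),(20,[1,5,7,12]),(20,[1,3,6,7,8,10,11]),(20,[1,2,7,9,10]),(20,[1,2,3,4,5,8,11,13]),(20,[1,3,5,9,10,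11,12,13]),(20,[1,2,4,11,12,13]),(20,[1,2,3,4,5,10,11,12]),(34,[]),(29,[]),(40,[]),(23,[14,16,20,22]),(42,[]),(34,[19,14]),(21,[14,16,20,22]),(21,[14,18,22]),(7,[]),(19,[14,16,20,22]),(40,[1,15,14,17,16,18,15,17])],[(21,[1]),(21,[1,2,4,11,13]),(21,[1,3,5,10,12]),(21,[1,4,11,13]),(21,[1,5,10,12]),(21,[1,4,6,13]),(21,[1,5,7,12]),(21,[1,4,8,11,13]),(21,[1,4,5,9,10,11,12,13]),(21,[1,2,3,6,8,10,11,12]),(21,[1,3,6,7,9,10,13]),(21,[1,4,5,10,11,13]),(21,[1,5,10,12,13]),(35,[]),(12,[14,18,22]),(39,[14,18,22]),(9,[]),(43,[]),(35,[19,14]),(20,[14,16,20,22]),(20,[14,18,22]),(19,[14,16,20,22]),(7,[]),(43,[14,16,15,14,17,16,15,18,19,17,21,16])],[(22,[1]),(22,[1,2,4,11,13]),(22,[1,3,5,10,12]),(22,[4,9,13]),(22,[5,8,12]),(22,[1,4,6,9,11]),(22,[1,5,7,8,10]),(22,[8]),(22,[9]),(22,[8,10,12]),(22,[9,11,13]),(2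2,[12]),(22,[13]),(36,[]),(44,[]),(32,[1,15,14,17,16,18,15,17]),(44,[15,17]),(31,[1,15,14,17,16,18,15,17]),(36,[19,14]),(45,[]),(46,[]),(46,[14,15,16,15,14,17,18,17,16,15,14,23,16]),(46,[16,15,17,16,21,23]),(7,[])],[(23,[1]),(23,[2,6,7,10,11]),(23,[2,3,7,10]),(23,[1,5,10,12]),(23,[1,4,11,13]),(23,[7,10]),(23,[6,11]),(23,[1,2,3,6,7,8,9,10,11]),(23,[1,2,6,9,11]),(23,[1,4,7,10,13]),(23,[1,5,6,7,10,11,12]),(23,[2,3,4,5,7,8,11,12]),(23,[2,4,6,7,8,9,10,12,13]),(24,[14,15,14,16,15,14,20,22]),(13,[16,18,20]),(16,[14,15,14,16,15,14,20,22]),(20,[14,16,20,22]),(23,[1,16,19,18,20,22]),(24,[14,15,14,16,15,19,20,22]),(9,[]),(9,[16,18,20]),(9,[14,16,20,22]),(8,[]),(47,[])],[(24,[1]),(24,[3,6,11]),(24,[2,3,7,10]),(24,[2,5,6,10,11,12]),(24,[3,4,5,7,11,12,13]),(24,[2,3]),(24,[2]),(24,[1,2,7,11,12]),(24,[1,2,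3,6,10,11,13]),(24,[1,2,4,5,7,10,12,13]),(24,[1,2,3,5,6,11,12]),(24,[2,4,7,9,12]),(24,[2,3,4,5,6,8,9,13]),(23,[14,15,14,16,15,14,20,22]),(24,[14,16,18,22]),(9,[]),(34,[15,14,16,15]),(24,[1,16,19,18,20,22]),(23,[14,15,16,15,19,15,20,22]),(16,[14,15,14,16,15,14,20,22]),(24,[14,18,22]),(16,[15,14,16,15]),(15,[14,15,14,16,15,14,20,22]),(48,[])],[(25,[1]),(25,[2,6,7,10,11]),(25,[2,3,7,10]),(25,[2,3,4,6,8,9,10,12,13]),(25,[3,4,5,6,7,8,11,12]),(25,[1,2,3,5,6,7,10,11,12]),(25,[1,3,4,7,10,13]),(25,[1,5,8,9,10,12]),(25,[1,4,5,9,10,11,12,13]),(25,[1,3,4,6,7,10,11,13]),(25,[1,2,3,5,6,11,12]),(25,[1,4,5,8,10,11,12]),(25,[1,4,8,9,11,12,13]),(37,[]),(49,[]),(48,[]),(25,[1,15,14,16,17,16,18,17,16,15]),(25,[1,16,19,18,20,22]),(37,[14,19]),(37,[1,15,14,16,18,15]),(49,[15,14,17,16,15,18,17,19,23,16,18,15,17,1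6]),(48,[1,14,15,14,16,15,19,18,20,22]),(50,[]),(9,[])],[(26,[1]),(26,[3,4,5,6,10,12,13]),(26,[2,3,4,7,10,11,13]),(26,[2,5,6,10,11,12]),(26,[3,4,5,7,11,12,13]),(26,[1,2,3,4,5,10,11,12,13]),(26,[1,2,4,11,13]),(26,[8,9,10,11,13]),(26,[8,10,12,13]),(26,[1,2,4,8,9,10,12]),(26,[1,2,3,4,5,8,11,13]),(26,[3,4,5,7,8,10,12,13]),(26,[2,5,6,9,11,12]),(26,[14,16,18,20]),(41,[14,16,17,16,18,17,16,19,20]),(29,[]),(26,[16]),(11,[17,16,18,17]),(26,[16,18,19,20]),(26,[16,18,20]),(10,[]),(28,[]),(26,[14,18,22]),(51,[])],[(27,[1]),(27,[3,4,5,6,10,12,13]),(27,[2,3,4,7,10,11,13]),(27,[2,5,6,10,11,12]),(27,[3,4,5,7,11,12,13]),(27,[1,2,3,4,5,10,11,12,13]),(27,[1,2,4,11,13]),(27,[1,4,6,7,8,9,11]),(27,[1,4,5,7,8,10,11]),(27,[2,5,6,7,8,9,10,13]),(27,[2,3,4,7,8,11,12,13]),(27,[3,4,5,6,8,11,12,13]),(27,[2,5,6,7,9,10,11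,12]),(27,[14]),(43,[16,17,16,18,17,19,22]),(12,[]),(27,[14,16,18,22]),(12,[17,16,18,17]),(27,[19]),(27,[16,18,20]),(28,[]),(10,[]),(27,[14,18,22]),(27,[14,17,18,17])],[(28,[1]),(28,[3,4,5,6,10,12,13]),(28,[2,3,4,7,10,11,13]),(28,[2,5,6,10,11,12]),(28,[3,4,5,7,11,12,13]),(28,[1,2,3,4,5,10,11,12,13]),(28,[1,2,4,11,13]),(28,[1,4,6,7,8,9,11]),(28,[1,4,5,7,8,10,11]),(28,[1,4,5,6,7,8,9,10,11]),(28,[1,5,7,8,10]),(28,[6,7,8]),(28,[7,9]),(28,[14,16,18,20]),(42,[14,17,16,18,17,19]),(11,[]),(28,[14,16,18,22]),(29,[17,16,18,17]),(28,[16,18,19,20]),(28,[16,18,20]),(27,[]),(26,[]),(28,[14,18,22]),(52,[])],[(29,[1]),(29,[2,5,6,7,11,12]),(29,[2,3,4,7,10,11,13]),(29,[1,5,10,12]),(29,[1,4,11,13]),(29,[1,5,7,12]),(29,[1,4,6,13]),(29,[1,2,3,6,8,9,11]),(29,[1,2,7,9,10]),(29,[1,3,5,9,10,11,12,13]),(29,[1,2,3,4,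5,8,11,13]),(29,[1,2,4,5,6,7,8,12]),(29,[1,3,4,6,8,9,12,13]),(29,[14,16,18,20]),(20,[]),(26,[]),(13,[14,18,22]),(28,[17,16,18,17]),(29,[16,19,18,20]),(29,[16,18,20]),(12,[]),(11,[]),(11,[14,18,22]),(53,[])],[(30,[1]),(30,[2,5,6,7,11,12]),(30,[2,3,4,7,10,11,13]),(30,[5,7,9,10,12]),(30,[4,6,8,9,11,13]),(30,[8,10,12]),(30,[9,11,13]),(30,[8,9]),(30,[9]),(30,[1,4,6,9,11]),(30,[1,5,7,8,10]),(30,[1,4,8,11]),(30,[1,5,8,9,10]),(30,[14,16,18,20]),(30,[1,14,15,14,17,16,15,18,19,17]),(52,[]),(54,[]),(51,[17,16,18,17]),(30,[16,19,18,20]),(53,[16,17,16,18,17,16,20]),(55,[]),(52,[14,16,17,16,18,17,16,20]),(54,[15,14,16,15,14,17,16,18,22,15,14,17,16,15]),(11,[])],[(31,[1]),(31,[1,2,4,11,13]),(31,[1,3,5,10,12]),(31,[1,3,4,5,10,11,12,13]),(31,[1,2,3,4,11,13]),(31,[1,4,6,13]),(31,[1,5,7,12]),(31,[8,9,11,13]),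(31,[8,10,11,12,13]),(31,[8,10,12]),(31,[9,11,13]),(31,[12]),(31,[13]),(17,[]),(56,[]),(14,[]),(17,[15,14,16,15]),(22,[1,15,14,17,16,18,15,17]),(17,[19,14]),(57,[]),(58,[]),(58,[16,18,20]),(57,[14,16,20,22]),(18,[1,15,14,17,16,18,15,17])],[(32,[1]),(32,[1,2,4,11,13]),(32,[1,3,5,10,12]),(32,[2]),(32,[3]),(32,[3,4,5,6,10,12,13]),(32,[2,3,4,7,10,11,13]),(32,[10,12,13]),(32,[11,12]),(32,[8,10,12]),(32,[9,11,13]),(32,[12]),(32,[13]),(18,[]),(32,[14,19,14]),(22,[1,15,14,17,16,18,15,17]),(32,[14,19,18]),(14,[]),(18,[19,14]),(59,[]),(32,[16,18,20]),(60,[]),(32,[1,14,16,20,22]),(17,[1,15,14,17,16,18,15,17])],[(33,[1]),(33,[1,2,3,4,5,10,11,12,13]),(33,[1,3,5,10,12]),(33,[2,3,4,5,6,10,12,13]),(33,[3,5,6,7,11,12]),(33,[3,4,5,6,10,12,13]),(33,[2,5,6,7,11,12]),(33,[1,4,5,7,10,11]),(33,[1,4,6,7,11]),(33,[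1,2,4,8,9,10,12]),(33,[1,3,5,9,10,11,12,13]),(33,[1,3,5,8,9,11,12]),(33,[1,2,3,4,5,9,10,12,13]),(19,[]),(33,[14,16,18,20]),(57,[]),(15,[]),(59,[]),(19,[14,19]),(14,[]),(33,[16,18,20]),(35,[14,16,20,22]),(34,[14,16,20,22]),(19,[1,15,14,17,16,18,15,17])],[(34,[1]),(34,[1,2,3,4,5,10,11,12,13]),(34,[1,3,5,10,12]),(34,[2,3,4,5,6,10,12,13]),(34,[3,5,6,7,11,12]),(34,[3,4,5,6,10,12,13]),(34,[2,5,6,7,11,12]),(34,[1,3,6,7,11,12,13]),(34,[1,2,3,6,10,13]),(34,[1,2,4,8,9,10,12]),(34,[1,3,5,9,10,11,12,13]),(34,[1,2,3,4,5,8,9,12,13]),(34,[1,2,4,9,13]),(20,[]),(34,[14,16,18,20]),(58,[16,18,20]),(24,[15,14,16,15]),(60,[]),(20,[14,19]),(35,[14,16,20,22]),(34,[16,18,20]),(14,[]),(33,[14,16,20,22]),(58,[1,15,14,17,16,18,15,17,16,18,20])],[(35,[1]),(35,[1,2,3,4,5,10,11,12,13]),(35,[1,3,5,10,12]),(35,[2,3,4,5,6,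10,12,13]),(35,[3,5,6,7,11,12]),(35,[3,4,5,6,10,12,13]),(35,[2,5,6,7,11,12]),(35,[2,3,4,5,6]),(35,[2,4,7]),(35,[1,2,7,8,9,11,12,13]),(35,[1,3,6,7,9,10,13]),(35,[2,4,7,8,9,13]),(35,[3,5,6,7,9,12]),(21,[]),(35,[14]),(61,[]),(16,[]),(62,[]),(21,[14,19]),(34,[14,16,20,22]),(35,[16,18,20]),(33,[14,16,20,22]),(14,[]),(62,[14,16,15,14,17,16,15,18,19,17,21,16])],[(36,[1]),(36,[1,2,3,4,5,10,11,12,13]),(36,[1,3,5,10,12]),(36,[1,2,3,4,5,6,10,12]),(36,[1,3,5,6,7,11,13]),(36,[3,4,5,6,9,10,11,12]),(36,[2,5,6,7,8,9,10,13]),(36,[10,12,13]),(36,[10,11,13]),(36,[8,9,10,11,12,13]),(36,[9,11,13]),(36,[8,9,10,11]),(36,[9,11]),(22,[]),(17,[1,14,15,14,16,17,16,15]),(18,[1,15,14,17,16,18,15,17]),(56,[1,14,15,16,15,17]),(17,[1,15,14,17,16,18,15,17]),(22,[14,19]),(63,[]),(64,[]),(65,[]),(65,[14,15,16,15,17,16,18,17,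16,15,14,21,16]),(14,[])],[(37,[1]),(37,[3,6,11]),(37,[2,3,7,10]),(37,[3,4,5,6,7,8,9,13]),(37,[2,3,4,6,9,12]),(37,[1,5,6,11,12]),(37,[1,4,5,7,10,12,13]),(37,[3,5,6,7]),(37,[2,4,7]),(37,[1,2,4,5,7,10,12,13]),(37,[1,2,3,5,6,11,12]),(37,[2,4,7,9,12]),(37,[2,3,4,5,6,8,9,13]),(25,[]),(37,[14,16,17,16,18,17,16,23]),(47,[14,15,14,16,15,14,20,22]),(37,[1,15,14,16,17,16,18,17,16,15]),(37,[1,16,19,18,20,22]),(25,[19,14]),(25,[1,15,14,16,18,15]),(66,[]),(47,[1,14,19,18]),(67,[]),(16,[])],[(38,[1]),(38,[1,2,3,4,5,10,11,12,13]),(38,[1,3,5,10,12]),(38,[1,2,4,6,13]),(38,[1,2,3,4,5,6,7,12,13]),(38,[3,4,5,6,10,12,13]),(38,[2,5,6,7,11,12]),(38,[1,3,4,7,9,12,13]),(38,[1,2,3,5,6,7,8,13]),(38,[1,2,4,8,9,10,12]),(38,[1,3,5,9,10,11,12,13]),(38,[1,3,5,8,9,11,12]),(38,[1,2,3,4,5,9,10,12,13]),(57,[]),(65,[1,16,15,14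,18,17,16,15,19,22,17]),(19,[]),(57,[15,14,16,15]),(63,[1,15,14,17,16,18,15,17]),(57,[14,19]),(17,[]),(40,[16,18,20]),(39,[16,18,20]),(17,[14,16,20,22]),(57,[1,15,14,17,16,18,15,17])],[(39,[1]),(39,[1,2,3,4,5,10,11,12,13]),(39,[1,3,5,10,12]),(39,[1,2,4,6,13]),(39,[1,2,3,4,5,6,7,12,13]),(39,[3,4,5,6,10,12,13]),(39,[2,5,6,7,11,12]),(39,[9,10,11,12]),(39,[8,11,12,13]),(39,[2,5,6,7,8,9,10,13]),(39,[3,4,5,6,9,10,11,12]),(39,[1,2,3,4,5,6,7,8,9,10,11,12,13]),(39,[1,2,4,6,9,11,13]),(61,[14,18,22]),(64,[1,15,14,16,17,16,15,14]),(21,[14,18,22]),(58,[15,14,16,15]),(64,[1,15,14,17,16,18,15,17]),(61,[18,19,22]),(40,[16,18,20]),(17,[]),(38,[16,18,20]),(40,[14,18,22]),(64,[1,14,15,14,16,15,17,16,15,14,18,20])],[(40,[1]),(40,[1,2,3,4,5,10,11,12,13]),(40,[1,3,5,10,12]),(40,[1,2,4,6,13]),(40,[1,2,3,4,5,6,7,1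2,13]),(40,[3,4,5,6,10,12,13]),(40,[2,5,6,7,11,12]),(40,[1,5,6,7,9,10]),(40,[1,4,5,6,8,10,11]),(40,[1,2,4,8,9,10,12]),(40,[1,3,5,9,10,11,12,13]),(40,[1,2,3,4,5,8,9,12,13]),(40,[1,2,4,9,13]),(58,[16,18,20]),(63,[1,16,15,14,18,17,16,15,19,22,17]),(20,[]),(61,[15,14,16,15]),(65,[1,15,14,17,16,18,15,17]),(58,[14,16,18,19,20]),(39,[16,18,20]),(38,[16,18,20]),(17,[]),(39,[14,18,22]),(20,[1,15,14,17,16,18,15,17])],[(41,[1]),(41,[1,2,3,4,5,10,11,12,13]),(41,[1,3,5,10,12]),(41,[6,11]),(41,[6,7,10,11]),(41,[1,4,6,13]),(41,[1,4,5,6,7,12,13]),(41,[1,3,4,7,8,10,11,13]),(41,[1,2,3,5,6,7,8,9,11,12]),(41,[1,2,4,8,9,10,12]),(41,[1,3,5,9,10,11,12,13]),(41,[1,3,5,8,9,11,12]),(41,[1,2,3,4,5,9,10,12,13]),(59,[]),(26,[14,16,17,16,18,17,19,16,20]),(63,[1,15,14,17,16,18,15,17]),(41,[14,19,18]),(19,[]),(59,[14,19])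,(18,[]),(18,[16,18,20]),(43,[14,16,20,22]),(41,[1,14,16,20,22]),(59,[1,15,14,17,16,18,15,17])],[(42,[1]),(42,[1,2,3,4,5,10,11,12,13]),(42,[1,3,5,10,12]),(42,[6,11]),(42,[6,7,10,11]),(42,[1,4,6,13]),(42,[1,4,5,6,7,12,13]),(42,[1,3,6,7,8,10,11]),(42,[1,2,3,6,8,9,11]),(42,[1,2,4,8,9,10,12]),(42,[1,3,5,9,10,11,12,13]),(42,[1,2,3,4,5,8,9,12,13]),(42,[1,2,4,9,13]),(60,[]),(28,[14,17,16,18,19,17]),(65,[1,15,14,17,16,18,15,17]),(42,[1,16,19,18,20,22]),(20,[]),(60,[14,19]),(43,[14,16,20,22]),(43,[14,18,22]),(18,[]),(42,[1,14,16,20,22]),(65,[])],[(43,[1]),(43,[1,2,3,4,5,10,11,12,13]),(43,[1,3,5,10,12]),(43,[6,11]),(43,[6,7,10,11]),(43,[1,4,6,13]),(43,[1,4,5,6,7,12,13]),(43,[1,4,8,11,13]),(43,[1,5,8,9,10,12]),(43,[1,2,7,8,9,11,12,13]),(43,[1,3,6,7,9,10,13]),(43,[2,4,7,8,9,13]),(43,[3,5,6,7,9,12]),(62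,[]),(27,[17,16,19,23,18,17,16]),(64,[1,14,18,22,15,14,17,16,18,15,17]),(43,[1,16,19,18,20,22]),(21,[]),(62,[14,19]),(42,[14,16,20,22]),(42,[14,18,22]),(41,[14,16,20,22]),(43,[1,14,16,20,22]),(21,[14,16,15,14,17,16,15,18,19,17,21,16])],[(44,[1]),(44,[2,5,6,7,8,9,10,13]),(44,[2,3,4,7,8,11,12,13]),(44,[5,8,12]),(44,[4,9,13]),(44,[1,5,7,8,10]),(44,[1,4,6,9,11]),(44,[8,9]),(44,[9]),(44,[9,11,13]),(44,[8,10,12]),(44,[8,13]),(44,[8,9,12]),(56,[1,14,15,14,16,17,16,15]),(22,[]),(44,[16,17,16]),(22,[15,17]),(56,[1,15,14,17,16,15,18,17]),(56,[1,14,15,16,17,16,19,15]),(68,[]),(69,[]),(44,[14,15,16,15,14,17,18,17,16,15,14,23,16]),(69,[16,15,17,16,21,23]),(56,[1,15,14,16,17,16,15])],[(45,[1]),(45,[1,2,4,11,13]),(45,[1,3,5,10,12]),(45,[4,9,13]),(45,[5,8,12]),(45,[1,4,6,9,11]),(45,[1,5,7,8,10]),(45,[1,3,4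,7,9,12,13]),(45,[1,2,4,5,6,8,9,12]),(45,[1,2,3,4,5,8,11,13]),(45,[1,3,5,9,10,11,12,13]),(45,[1,3,5,10]),(45,[1,2,4,11]),(63,[]),(70,[]),(59,[1,15,14,17,16,18,15,17]),(68,[15,17]),(57,[1,15,14,17,16,18,15,17]),(63,[19,14]),(22,[]),(71,[]),(71,[14,15,16,15,14,17,18,17,16,15,14,23,16]),(71,[16,15,17,16,21,23]),(63,[1,15,14,17,16,18,15,17])],[(46,[1]),(46,[1,2,4,11,13]),(46,[1,3,5,10,12]),(46,[4,9,13]),(46,[5,8,12]),(46,[1,4,6,9,11]),(46,[1,5,7,8,10]),(46,[8]),(46,[9]),(46,[1,5,7,12]),(46,[1,4,6,13]),(46,[5,8]),(46,[4,9]),(65,[14,15,16,15,14,17,18,17,16,15,14,23,16]),(69,[]),(60,[1,15,14,17,16,18,15,17,16,18,20]),(69,[15,17]),(58,[1,15,14,17,16,18,15,17]),(65,[14,15,16,15,14,17,18,17,16,15,19,23,16]),(71,[]),(22,[]),(22,[14,15,16,15,14,17,18,17,16,15,14,23,16]),(22,[16,15,17,16,21,23]),(60,[14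,15,16,15,14,17,18,17,16,15,14,23,16])],[(47,[1]),(47,[2,6,7,10,11]),(47,[2,3,7,10]),(47,[2,4,8,9,10,11,12,13]),(47,[2,3,4,5,8,10,12]),(47,[1,5,6,11,12]),(47,[1,4,6,7,10,11,13]),(47,[1,2,3,6,7,8,9,10,11]),(47,[1,2,6,9,11]),(47,[1,4,7,10,13]),(47,[1,5,6,7,10,11,12]),(47,[2,3,4,5,7,8,11,12]),(47,[2,4,6,7,8,9,10,12,13]),(48,[14,15,14,16,15,14,20,22]),(72,[]),(37,[14,15,14,16,15,14,20,22]),(73,[]),(47,[1,16,19,18,20,22]),(48,[14,15,14,16,15,19,20,22]),(48,[1,16,19,18,20,22]),(72,[1,17,16,18,20,22,17,19]),(37,[1,14,19,18]),(73,[1,15,14,17,16,18,15,17]),(23,[])],[(48,[1]),(48,[3,6,11]),(48,[2,3,7,10]),(48,[1,2,4,5,6,8,9,10,13]),(48,[1,3,4,7,9,10,11,12]),(48,[1,5,6,11,12]),(48,[1,4,5,7,10,12,13]),(48,[1,2,7,11,12]),(48,[1,2,3,6,10,11,13]),(48,[1,2,4,5,7,10,12,13]),(48,[1,2,3,5,6,11,12]),(48,[2,4,7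,9,12]),(48,[2,3,4,5,6,8,9,13]),(47,[14,15,14,16,15,14,20,22]),(48,[1,14,17,16,18,20,22,17]),(25,[]),(55,[1,15,14,22,23]),(48,[1,16,19,18,20,22]),(47,[14,15,16,15,19,15,20,22]),(47,[1,16,19,18,20,22]),(54,[1,15,14,22,23]),(25,[1,14,15,14,16,15,19,18,20,22]),(55,[1,14,15,16,15,14,17,16,15,18,17,16,19,15,23]),(24,[])],[(49,[1]),(49,[1,4,5,7,10,12,13]),(49,[1,4,6,7,10,11,13]),(49,[3,4,5,6,7,8,11,12]),(49,[2,3,4,6,8,9,10,12,13]),(49,[1,3,4,7,10,13]),(49,[1,2,3,5,6,7,10,11,12]),(49,[1,4,8,11,13]),(49,[1,4,5,9,10,11,12,13]),(49,[1,2,3,5,6,11,12]),(49,[1,3,4,6,7,10,11,13]),(49,[1,4,5,10,11,13]),(49,[1,5,10,12,13]),(49,[14,16,17,16,18,17,16,23]),(25,[]),(49,[1,14,17,16,18,20,22,17]),(49,[1,15,14,16,17,16,18,17,16,15]),(49,[1,14,16,18,20,22]),(49,[16,17,16,18,17,16,19,23]),(66,[1,14,15,14,16,15,17,1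6,18,17,19,23]),(25,[15,14,17,16,15,18,17,19,23,16,18,15,17,16]),(54,[14,15,14,16,15,17,16,18,17,16,15,19,21,22]),(52,[1,18,21,22,17]),(49,[16,17,16,18,17,16,23])],[(50,[1]),(50,[2,6,7,10,11]),(50,[2,3,7,10]),(50,[2,3,4,6,8,9,10,12,13]),(50,[3,4,5,6,7,8,11,12]),(50,[1,2,3,5,6,7,10,11,12]),(50,[1,3,4,7,10,13]),(50,[1,2,3,4,5,6,13]),(50,[1,2,4,7,12]),(50,[1,2,7,8,13]),(50,[1,3,6,7,8,9,12]),(50,[1,2,4,7,8,9,12,13]),(50,[1,3,5,6,7,9,13]),(67,[]),(52,[1,18,21,22,17]),(50,[1,14,15,14,16,15,19,18,20,22]),(50,[1,15,14,16,17,16,18,17,16,15]),(73,[14,15,16,15,17,16,18,17,16,22,15]),(67,[14,19]),(67,[1,15,14,16,18,15]),(52,[1,14,15,16,15,14,17,16,15,18,17,16,19,15,23]),(55,[1,15,17,16,15,14,18,17,16,15,19,20,23]),(25,[]),(74,[])],[(51,[1]),(51,[3,4,5,6,10,12,13]),(51,[2,3,4,7,10,11,13]),(51,[2,3,4,5,8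,9,10,11,13]),(51,[2,4,9,11,12]),(51,[8,10,12]),(51,[8,9,10,11,12,13]),(51,[8,9,10,11,13]),(51,[8,10,12,13]),(51,[1,2,4,8,9,10,12]),(51,[1,2,3,4,5,8,11,13]),(51,[3,4,5,7,8,10,12,13]),(51,[2,5,6,9,11,12]),(51,[14,16,18,20]),(51,[1,15,14,17,16,18,15,17]),(53,[]),(51,[14,15,14,16,15,14,17,16,18,17,16,15,14,23,16,15]),(30,[17,16,18,17]),(51,[16,18,19,20]),(52,[16,17,16,18,17,16,20]),(67,[1,14,15,14,16,15,14,17,16,18,17,16,15,21]),(53,[14,16,17,16,18,17,16,20]),(66,[1,14,15,14,16,15,14,17,16,18,17,16,15,21]),(26,[])],[(52,[1]),(52,[3,4,5,6,10,12,13]),(52,[2,3,4,7,10,11,13]),(52,[1,2,6,8,9,11,12]),(52,[1,3,7,9,10,12,13]),(52,[2,3,4,7,8,11,12,13]),(52,[2,5,6,7,8,9,10,13]),(52,[1,4,6,7,8,9,11]),(52,[1,4,5,7,8,10,11]),(52,[1,4,5,6,7,8,9,10,11]),(52,[1,5,7,8,10]),(52,[6,7,8]),(52,[7,9]),(52,[14,16,18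,20]),(50,[1,17,18,21,22]),(30,[]),(52,[15,14,16,20,15,18]),(53,[17,16,18,17]),(52,[16,18,19,20]),(51,[16,17,16,18,17,16,20]),(50,[1,15,14,16,15,14,17,16,18,15,17,16,15,14,21]),(30,[14,16,17,16,18,17,16,20]),(49,[1,17,18,21,22]),(28,[])],[(53,[1]),(53,[2,5,6,7,11,12]),(53,[2,3,4,7,10,11,13]),(53,[1,2,6,9,10,11]),(53,[1,2,3,6,7,8,9,10]),(53,[2,3,4,7,8,11,12,13]),(53,[3,4,5,6,9,10,11,12]),(53,[1,2,3,6,8,9,11]),(53,[1,2,7,9,10]),(53,[1,3,5,9,10,11,12,13]),(53,[1,2,3,4,5,8,11,13]),(53,[1,2,4,5,6,7,8,12]),(53,[1,3,4,6,8,9,12,13]),(53,[14,16,18,20]),(73,[19,15,16,17,23,18,17,16,15]),(51,[]),(72,[19,15,16,17,23,18,17,16,15]),(52,[17,16,18,17]),(53,[16,19,18,20]),(30,[16,17,16,18,17,16,20]),(73,[14,17,23,16,18,15,17,16,15,14]),(51,[14,16,17,16,18,17,16,20]),(72,[1,14,15,14,17,16,22,15,18]),(29,[])]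,[(54,[1]),(54,[1,2,4,5,7,10,11]),(54,[1,3,4,6,7,11]),(54,[4,6,8,9,11,13]),(54,[5,7,9,10,12]),(54,[4,6,8]),(54,[5,7,8,9]),(54,[8]),(54,[9]),(54,[7]),(54,[6]),(54,[1,5,10]),(54,[1,4,11]),(54,[14,16,18,20]),(54,[1,14,15,14,17,16,15,18,19,17]),(54,[15,14,16,20,15,18]),(30,[]),(54,[14,15,14,16,15,14,18,21]),(54,[16,18,19,20]),(72,[1,14,17,18,15,16,17,16,21,23,18]),(48,[1,14,22,15,23]),(49,[14,15,16,17,16,15,14,18,17,16,15,14,22,23]),(30,[15,14,16,15,14,17,16,18,22,15,14,17,16,15]),(54,[14,15,14,16,15,14,21])],[(55,[1]),(55,[2,5,6,7,11,12]),(55,[2,3,4,7,10,11,13]),(55,[5,7,9,10,12]),(55,[4,6,8,9,11,13]),(55,[8,10,12]),(55,[9,11,13]),(55,[8,9]),(55,[9]),(55,[1,4,6,13]),(55,[1,5,7,12]),(55,[1,6,9,13]),(55,[1,7,8,12]),(73,[1,15,16,15,14,20,23]),(55,[1,14,15,14,17,16,15,18,19,17]),(55,[14,16,17,16,1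8,17,16,20]),(48,[1,14,22,15,23]),(67,[1,14,15,14,16,15,14,17,16,18,15,17,16,15,14,21]),(73,[1,15,16,15,19,20,23]),(73,[14,15,16,19,21,23,18]),(30,[]),(50,[14,15,14,16,15,17,16,18,17,20,15,22]),(48,[1,15,14,16,15,14,17,16,18,15,17,16,15,14,21]),(75,[])],[(56,[1]),(56,[2,5,6,7,11,12]),(56,[2,3,4,7,10,11,13]),(56,[1,2,3,4,11,13]),(56,[1,3,4,5,10,11,12,13]),(56,[1,5,7,12]),(56,[1,4,6,13]),(56,[9,10,12]),(56,[8,10,11,12,13]),(56,[9,11,13]),(56,[8,10,12]),(56,[8,9,11]),(56,[9,10]),(44,[1,15,14,16,17,16,15,14]),(31,[]),(56,[14]),(36,[1,15,17,16,15,14]),(44,[1,15,14,17,16,15,18,17]),(44,[1,15,14,17,16,15,19,17]),(76,[]),(75,[14,16,17,16]),(56,[16,18,20]),(74,[14,15,14,16,15,17,16,15,18,17,16,15]),(44,[1,15,14,16,17,16,15])],[(57,[1]),(57,[1,2,4,11,13]),(57,[1,3,5,10,12]),(57,[1,3,4,5,10,11,12,13])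,(57,[1,2,3,4,11,13]),(57,[1,4,6,13]),(57,[1,5,7,12]),(57,[1,4,5,7,8,9,12]),(57,[1,5,6,8,13]),(57,[1,2,3,4,5,8,11,13]),(57,[1,3,5,9,10,11,12,13]),(57,[1,3,5,10]),(57,[1,2,4,11]),(38,[]),(74,[1,15,14,16,15,14,17,16,15,18,17,16,15,21]),(33,[]),(38,[15,14,16,15]),(45,[1,15,14,17,16,18,15,17]),(38,[19,14]),(31,[]),(61,[14,18,22]),(61,[14,16,20,22]),(31,[14,16,20,22]),(38,[1,15,14,17,16,18,15,17])],[(58,[1]),(58,[1,2,4,11,13]),(58,[1,3,5,10,12]),(58,[1,3,4,5,10,11,12,13]),(58,[1,2,3,4,11,13]),(58,[1,4,6,13]),(58,[1,5,7,12]),(58,[8,9,11,13]),(58,[8,10,11,12,13]),(58,[1,5,7,8,10]),(58,[1,4,6,9,11]),(58,[1,2,3,4,11,12,13]),(58,[1,3,4,5,10,11,12]),(40,[16,18,20]),(75,[14,16,17,16]),(34,[16,18,20]),(39,[15,14,16,15]),(46,[1,15,14,17,16,18,15,17]),(40,[14,16,19,18,20]),(61,[14,18,22]),(31,[]),(31,[16,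18,20]),(61,[16,18,20]),(34,[1,16,15,14,18,17,16,15,18,22,17])],[(59,[1]),(59,[1,2,4,11,13]),(59,[1,3,5,10,12]),(59,[2]),(59,[3]),(59,[3,4,5,6,10,12,13]),(59,[2,3,4,7,10,11,13]),(59,[1,4,5,7,10,11]),(59,[1,5,6,10]),(59,[1,2,3,4,5,8,11,13]),(59,[1,3,5,9,10,11,12,13]),(59,[1,3,5,10]),(59,[1,2,4,11]),(41,[]),(59,[16,19,18,20]),(45,[1,15,14,17,16,18,15,17]),(59,[14,19,18]),(33,[]),(41,[19,14]),(32,[]),(59,[16,18,20]),(62,[14,16,20,22]),(59,[1,14,16,20,22]),(41,[1,15,14,17,16,18,15,17])],[(60,[1]),(60,[1,2,4,11,13]),(60,[1,3,5,10,12]),(60,[2]),(60,[3]),(60,[3,4,5,6,10,12,13]),(60,[2,3,4,7,10,11,13]),(60,[1,3,6,7,11,12,13]),(60,[1,2,7,10,11,12]),(60,[1,2,3,4,5,8,11,13]),(60,[1,3,5,9,10,11,12,13]),(60,[1,2,4,11,12,13]),(60,[1,2,3,4,5,10,11,12]),(42,[]),(60,[16,19,18,20]),(46,[1,16,15,14,18,17,16,1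5,18,22,17]),(60,[1,16,19,18,20,22]),(34,[]),(42,[19,14]),(62,[14,16,20,22]),(60,[16,18,20]),(32,[]),(60,[1,14,16,20,22]),(46,[14,15,16,15,14,17,18,17,16,15,14,23,16])],[(61,[1]),(61,[1,2,4,11,13]),(61,[1,3,5,10,12]),(61,[1,3,4,5,10,11,12,13]),(61,[1,2,3,4,11,13]),(61,[1,4,6,13]),(61,[1,5,7,12]),(61,[1,3,4,6,7,8,9,10,11]),(61,[1,2,4,5,7,8,10]),(61,[1,2,3,6,8,10,11,12]),(61,[1,3,6,7,9,10,13]),(61,[1,4,5,10,11,13]),(61,[1,5,10,12,13]),(39,[14,18,22]),(76,[14,18,22]),(35,[]),(40,[15,14,16,15]),(71,[1,14,18,22,15,14,17,16,18,15,17]),(39,[19,18,22]),(58,[14,18,22]),(57,[14,18,22]),(57,[14,16,20,22]),(58,[16,18,20]),(71,[1,15,14,16,15,18,17,16,15,18,21,14])],[(62,[1]),(62,[1,2,4,11,13]),(62,[1,3,5,10,12]),(62,[2]),(62,[3]),(62,[3,4,5,6,10,12,13]),(62,[2,3,4,7,10,11,13]),(62,[2,3,4,5,6]),(62,[3,5,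6,7]),(62,[1,2,3,6,8,10,11,12]),(62,[1,3,6,7,9,10,13]),(62,[1,4,5,10,11,13]),(62,[1,5,10,12,13]),(43,[]),(62,[14,19,14]),(71,[1,14,18,22,15,14,17,16,18,15,17]),(62,[1,16,19,18,20,22]),(35,[]),(43,[19,14]),(60,[14,16,20,22]),(62,[16,18,20]),(59,[14,16,20,22]),(62,[1,14,16,20,22]),(35,[14,16,15,14,17,16,15,18,19,17,21,16])],[(63,[1]),(63,[1,2,3,4,5,10,11,12,13]),(63,[1,3,5,10,12]),(63,[1,2,3,4,5,6,10,12]),(63,[1,3,5,6,7,11,13]),(63,[3,4,5,6,9,10,11,12]),(63,[2,5,6,7,8,9,10,13]),(63,[1,4,5,7,8,9,12]),(63,[1,4,6,7,9,12,13]),(63,[1,2,4,8,9,10,12]),(63,[1,3,5,9,10,11,12,13]),(63,[1,3,5,8,9,11,12]),(63,[1,2,3,4,5,9,10,12,13]),(45,[]),(40,[1,14,15,14,16,15,17,16,15,18,20]),(41,[1,15,14,17,16,18,15,17]),(76,[1,14,15,16,15,17]),(38,[1,15,14,17,16,18,15,17]),(45,[14,19]),(36,[]),(65,[14,15,16,15,14,17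,18,17,16,15,14,23,16]),(64,[14,15,16,15,14,17,18,17,16,15,14,23,16]),(64,[16,15,17,16,21,23]),(45,[1,15,14,17,16,18,15,17])],[(64,[1]),(64,[1,2,3,4,5,10,11,12,13]),(64,[1,3,5,10,12]),(64,[1,2,3,4,5,6,10,12]),(64,[1,3,5,6,7,11,13]),(64,[3,4,5,6,9,10,11,12]),(64,[2,5,6,7,8,9,10,13]),(64,[10,12,13]),(64,[10,11,13]),(64,[2,5,6,7,11,12]),(64,[3,4,5,6,10,12,13]),(64,[1,3,5,6,7,8,9,10,13]),(64,[1,2,3,4,5,6,9,10,11,12]),(71,[]),(39,[1,14,15,14,16,17,16,15]),(43,[1,15,14,16,17,16,15,18,17,19,22]),(75,[1,14,16,15,14,17]),(39,[1,15,14,17,16,18,15,17]),(71,[14,19]),(65,[14,15,16,15,14,17,18,17,16,15,14,23,16]),(36,[]),(63,[14,15,16,15,14,17,18,17,16,15,14,23,16]),(63,[16,15,17,16,21,23]),(39,[1,14,16,15,14,18,17,16,15,19,22,17])],[(65,[1]),(65,[1,2,3,4,5,10,11,12,13]),(65,[1,3,5,10,12]),(65,[1,2,3,4,5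,6,10,12]),(65,[1,3,5,6,7,11,13]),(65,[3,4,5,6,9,10,11,12]),(65,[2,5,6,7,8,9,10,13]),(65,[1,3,6,7,8,10,11]),(65,[1,2,3,6,8,9,11]),(65,[1,2,4,8,9,10,12]),(65,[1,3,5,9,10,11,12,13]),(65,[1,2,3,4,5,8,9,12,13]),(65,[1,2,4,9,13]),(46,[14,15,16,15,14,17,18,17,16,15,14,23,16]),(38,[1,14,15,14,16,15,17,16,15,18,20]),(42,[1,15,14,17,16,18,15,17]),(74,[1,15,16,17,16,15,23,18,17,16,19]),(40,[1,15,14,17,16,18,15,17]),(46,[14,15,16,15,14,17,18,17,16,15,23,16,19]),(64,[14,15,16,15,14,17,18,17,16,15,14,23,16]),(63,[14,15,16,15,14,17,18,17,16,15,14,23,16]),(36,[]),(36,[14,15,16,15,17,16,18,17,16,15,14,21,16]),(42,[])],[(66,[1]),(66,[3,6,11]),(66,[2,3,7,10]),(66,[3,4,5,6,7,8,9,13]),(66,[2,3,4,6,9,12]),(66,[1,5,6,11,12]),(66,[1,4,5,7,10,12,13]),(66,[3,5,6,7]),(66,[2,4,7]),(66,[2]),(66,[2,3]),(66,[3,6,7]),(66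,[2,7]),(66,[1,15,14,16,18,15]),(66,[14,16,17,16,18,17,16,23]),(66,[1,14,15,14,16,15,19,18,20,22]),(66,[1,15,14,16,17,16,18,17,16,15]),(66,[1,16,19,18,20,22]),(66,[1,15,14,16,15,18]),(49,[1,14,17,23,16,15,14,18,17,16,15,14]),(37,[]),(72,[1,17,23,16,18,17,19,16]),(51,[1,15,17,16,15,14,18,17,16,15,19,23,16,18]),(66,[20,22])],[(67,[1]),(67,[3,6,11]),(67,[2,3,7,10]),(67,[3,4,5,6,7,8,9,13]),(67,[2,3,4,6,9,12]),(67,[1,5,6,11,12]),(67,[1,4,5,7,10,12,13]),(67,[4,8,9,13]),(67,[4,5,8,12,13]),(67,[1,2,3,6,9,12,13]),(67,[1,3,6,7,8,9,12]),(67,[4,5,8,9,13]),(67,[5,8,12,13]),(50,[]),(67,[14,16,17,16,18,17,16,23]),(67,[1,14,15,14,16,15,19,18,20,22]),(67,[1,15,14,16,17,16,18,17,16,15]),(55,[1,14,15,16,15,14,17,16,15,14,18,17,16,15,19,23]),(50,[19,14]),(50,[1,15,14,16,18,15]),(51,[1,15,17,16,15,14,18,17,16,1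5,19,23,16,18]),(73,[15,14,17,16,18,17,16,15]),(37,[]),(69,[15,21,14,16,17,18,15,16])],[(68,[1]),(68,[2,5,6,7,8,9,10,13]),(68,[2,3,4,7,8,11,12,13]),(68,[5,8,12]),(68,[4,9,13]),(68,[1,5,7,8,10]),(68,[1,4,6,9,11]),(68,[1,2,3,5,6,7,8,13]),(68,[1,2,4,5,6,8,9,12]),(68,[3,4,5,6,10,12,13]),(68,[2,3,4,7,10,11,13]),(68,[2,3,4,7,11,12]),(68,[2,5,6,7,10,12,13]),(76,[1,14,15,14,16,17,16,15]),(71,[]),(68,[16,17,16]),(45,[15,17]),(76,[1,15,14,17,16,15,18,17]),(76,[1,14,15,16,17,16,19,15]),(44,[]),(70,[]),(68,[14,15,16,15,14,17,18,17,16,15,14,23,16]),(70,[16,15,17,16,21,23]),(68,[17,16,18,17])],[(69,[1]),(69,[2,5,6,7,8,9,10,13]),(69,[2,3,4,7,8,11,12,13]),(69,[5,8,12]),(69,[4,9,13]),(69,[1,5,7,8,10]),(69,[1,4,6,9,11]),(69,[8,9]),(69,[9]),(69,[1,4,6,13]),(69,[1,5,7,12]),(69,[4,8,9]),(69,[5,9]),(74,[16,15,14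,18,17,16,15,21]),(46,[]),(69,[14,15,16,15,14,17,16,18,17,16,15,14,23,16]),(46,[15,17]),(75,[1,14,15,14,17,16,15,14,18,17]),(74,[16,15,18,17,16,19,15,21]),(70,[]),(44,[]),(69,[14,15,16,15,14,17,18,17,16,15,14,23,16]),(44,[16,15,17,16,21,23]),(67,[16,15,14,18,17,16,15,21])],[(70,[1]),(70,[2,5,6,7,8,9,10,13]),(70,[2,3,4,7,8,11,12,13]),(70,[5,8,12]),(70,[4,9,13]),(70,[1,5,7,8,10]),(70,[1,4,6,9,11]),(70,[1,2,3,5,6,7,8,13]),(70,[1,2,4,5,6,8,9,12]),(70,[1,3,5,9,10,11,12,13]),(70,[1,2,3,4,5,8,11,13]),(70,[2,3,7,9,11,12,13]),(70,[2,6,7,8,10,13]),(75,[1,15,14,16,17,16,15,14]),(45,[]),(70,[14,15,16,15,14,17,16,18,17,16,15,14,23,16]),(71,[15,17]),(74,[14,16,15,18,17,16,15,19,15,21]),(75,[1,15,14,17,16,15,19,17]),(69,[]),(68,[]),(70,[14,15,16,15,14,17,18,17,16,15,14,23,16]),(68,[16,15,17,16,21,23]),(73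,[15,16,15,14,17,16,15,20,23])],[(71,[1]),(71,[1,2,4,11,13]),(71,[1,3,5,10,12]),(71,[4,9,13]),(71,[5,8,12]),(71,[1,4,6,9,11]),(71,[1,5,7,8,10]),(71,[1,3,4,7,9,12,13]),(71,[1,2,4,5,6,8,9,12]),(71,[2,3,4,7,10,11,13]),(71,[3,4,5,6,10,12,13]),(71,[1,3,8,10,12]),(71,[1,2,9,11,13]),(64,[]),(68,[]),(62,[1,15,14,16,17,16,15,18,17,19,22]),(70,[15,17]),(61,[1,15,14,16,17,16,15,18,17,19,22]),(64,[19,14]),(46,[]),(45,[]),(45,[14,15,16,15,14,17,18,17,16,15,14,23,16]),(45,[16,15,17,16,21,23]),(61,[1,14,15,16,15,14,18,17,16,23,18,15])],[(72,[1]),(72,[1,2,4,5,6,11,12,13]),(72,[1,3,4,7,10,13]),(72,[2,3,4,5,8,10,12]),(72,[2,4,8,9,10,11,12,13]),(72,[1,4,6,7,10,11,13]),(72,[1,5,6,11,12]),(72,[1,3,7,8,10]),(72,[1,2,6,9,11]),(72,[1,5,6,7,10,11,12]),(72,[1,4,7,10,13]),(72,[1,3,4,11,12,13]),(72,[1,2,4,5,10,11,12])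,(72,[14,15,14,16,15,14,17,16,18,17,16,15,14,23,16,15]),(47,[]),(72,[15,14,17,16,15,14,18,17,23,16,15,18,17,16]),(53,[15,16,17,18,17,23,16,15,19]),(72,[1,14,16,18,20,22]),(72,[14,15,14,16,15,14,17,16,18,17,16,15,19,23,16,15]),(54,[16,17,16,18,17,16,15,19,21,22]),(47,[1,17,16,18,20,22,17,19]),(66,[1,16,17,16,18,17,19,23]),(53,[1,15,14,16,18,22,15,17,19]),(72,[15,14,17,16,15,14,18,17,23,16,15,18,17])],[(73,[1]),(73,[3,6,8,10,11,13]),(73,[2,3,7,8,9,11,12]),(73,[2,3,4,5,8,10,12]),(73,[2,4,8,9,10,11,12,13]),(73,[1,2,3,5,6,7,8,11,12,13]),(73,[1,2,4,5,6,8,9,10,13]),(73,[1,3,7,8,10]),(73,[1,2,6,9,11]),(73,[1,4,5,6,8,13]),(73,[1,5,6,7,9,12,13]),(73,[1,3,4,11,12,13]),(73,[1,2,4,5,10,11,12]),(55,[1,14,15,16,15,20,23]),(53,[15,16,17,18,17,23,16,15,19]),(73,[14,16,15,14,17,16,15,18,19,17,21,16]),(47,[])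,(50,[15,16,17,16,23,18,15,17,16,15,14]),(55,[1,19,15,16,15,20,23]),(55,[14,16,15,14,18,20,23]),(53,[14,15,16,15,14,17,16,18,17,23]),(67,[15,14,16,17,16,18,15,17]),(47,[1,15,14,17,16,18,15,17]),(70,[15,14,16,15,17,16,15,21,23])],[(74,[1]),(74,[2,6,7,10,11]),(74,[2,3,7,10]),(74,[1,2,3,4,5,6,9,10]),(74,[1,3,5,6,7,8,9,11]),(74,[1,2,5,8,9,10,11]),(74,[1,2,3,4,8,10]),(74,[1,2,3,4,5,6,13]),(74,[1,2,4,7,12]),(74,[1,2,7,8,13]),(74,[1,3,6,7,8,9,12]),(74,[1,2,4,7,8,9,12,13]),(74,[1,3,5,6,7,9,13]),(69,[15,21,14,16,17,18,15,16]),(57,[1,15,16,15,14,17,16,15,14,23,18,17,16,15]),(74,[1,14,15,14,16,15,19,18,20,22]),(65,[1,14,16,15,17,16,18,17,16,22,15]),(70,[14,15,14,16,15,17,19,18,21,16]),(69,[15,21,14,16,15,17,16,18]),(75,[1,15,17,16,15,14,18,17,16,15,19,23,16,18]),(76,[1,15,16,15,14,17,16,15,14,23,18,17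,16,15]),(74,[1,14,15,14,16,15,14,20,22]),(56,[15,16,15,17,16,15,18,17,16,15,19,15]),(50,[])],[(75,[1]),(75,[2,5,6,7,11,12]),(75,[2,3,4,7,10,11,13]),(75,[1,7,8,9,10,12]),(75,[1,6,8,11,13]),(75,[1,5,7,8,10]),(75,[1,4,6,9,11]),(75,[8,9]),(75,[9]),(75,[1,4,6,13]),(75,[1,5,7,12]),(75,[1,6,9,13]),(75,[1,7,8,12]),(70,[1,14,15,14,16,17,16,15]),(58,[14,16,17,16]),(75,[14,16,17,16,18,17,16,20]),(64,[1,14,15,14,17,16]),(69,[1,14,15,14,17,16,15,14,18,17]),(70,[1,14,15,16,17,16,19,15]),(74,[1,14,15,14,16,15,14,17,16,18,17,16,15,21]),(56,[14,16,17,16]),(75,[16,17,16,18,17,16,20]),(76,[16,17,20,22]),(55,[])],[(76,[1]),(76,[2,5,6,7,11,12]),(76,[2,3,4,7,10,11,13]),(76,[1,2,3,4,11,13]),(76,[1,3,4,5,10,11,12,13]),(76,[1,5,7,12]),(76,[1,4,6,13]),(76,[1,4,6,7,9,12,13]),(76,[1,5,6,8,13]),(76,[3,4,5,6,9,10,11,12]),(76,[2,3,4,7,8,11,12,13]),(76,[2,3,4,7,8,9,10,13]),(76,[2,5,6,7,9,10,11,12]),(68,[1,15,14,16,17,16,15,14]),(61,[14,18,22]),(76,[14]),(63,[1,15,17,16,15,14]),(68,[1,15,14,17,16,15,18,17]),(68,[1,15,14,17,16,15,19,17]),(56,[]),(74,[1,15,14,16,15,14,17,16,15,18,17,16,15,21]),(76,[16,18,20]),(75,[17,16,20,23]),(76,[14,17,18,17])]]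

end Cfsg.J4R.M
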